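import Cfsg.Agent.SporMult.M23
import Cfsg.Agent.SporMult.M24Data
import Cfsg.Agent.StemCert.Split

/-!
The Schur multiplier of M24 is trivial: the preimage of M23 in a stem extension splits, and the
resulting cocycle on the 24 points vanishes.
-/

set_option autoImplicit false
set_option maxHeartbeats 0
set_option maxRecDepth 100000

namespace Cfsg.Agent.SporMult.M24

open Cfsg Cfsg.Agent.Compute Cfsg.Agent.StemCert
open scoped commutatorElement

/-- The multiplier is invariant under isomorphism. -/
theorem multiplier_of_equiv {G K : Type} [Group G] [Group K] (e : G ≃* K) {n : ℕ}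
    (h : Cfsg.HasCyclicSchurMultiplier G n) : Cfsg.HasCyclicSchurMultiplier K n := by
  have hker : ∀ {Γ : Type} [Group Γ] {A B : Type} [Group A] [Group B] (σ : Γ →* A) (f : A ≃* B),
      (f.toMonoidHom.comp σ).ker = σ.ker := fun σ f => by
    ext x; simp [MonoidHom.mem_ker]
  have hstem : ∀ {Γ : Type} [Group Γ] {A B : Type} [Group A] [Group B] (σ : Γ →* A) (f : A ≃* B),
      Cfsg.IsStemExtension σ → Cfsg.IsStemExtension (f.toMonoidHom.comp σ) := fun σ f hσ => by
    refine ⟨f.surjective.comp hσ.1, ?_⟩
    rw [hker σ f]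
    exact hσ.2
  obtain ⟨⟨Γ, i1, i2, σ, hσ, ⟨f⟩⟩, hall⟩ := h
  refine ⟨⟨Γ, i1, i2, e.toMonoidHom.comp σ, hstem σ e hσ,
    ⟨(MulEquiv.subgroupCongr (hker σ e)).trans f⟩⟩, fun Δ _ _ τ hτ => ?_⟩
  obtain ⟨π, hπ⟩ := hall Δ _ (hstem τ e.symm hτ)
  exact ⟨(MulEquiv.subgroupCongr (hker τ e.symm)).toMonoidHom.comp π,
    (MulEquiv.subgroupCongr (hker τ e.symm)).surjective.comp hπ⟩

theorem shape_ok : split.shapeOK = true := by decide +kernel
theorem eqs_ok : split.eqsOK split.eqs split.packs = true := by decide +kernel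
theorem vars_ok : allBelow (Nat.mul split.k split.n) split.varOK = true := by decide +kernel
theorem ord_ok : split.ordOK = true ∧ split.ord = 1 := by decide +kernel
theorem codes_eq : split.codes = topGens m24aChain ∧ split.k = split.codes.length ∧
    split.w = 5 ∧ split.n = 24 ∧ split.i0 = 23 := by decide +kernel
theorem mem_ok : allB (fun c => inM24B c) split.codes = true := by decide +kernel

theorem commutator_m23 : commutator Spor.M23 = ⊤ := by
  have := isSimpleGroup_m23
  rcases (inferInstance : (commutator Spor.M23).Normal).eq_bot_or_eq_top with h | h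
  · exfalso
    have hcomm : ∀ a b : Spor.M23, a * b = b * a := fun a b => by
      have : ⁅a, b⁆ ∈ commutator Spor.M23 :=
        Subgroup.commutator_mem_commutator (Subgroup.mem_top a) (Subgroup.mem_top b)
      rwa [h, Subgroup.mem_bot, commutatorElement_eq_one_iff_mul_comm] at this
    letI : CommGroup Spor.M23 := { (inferInstance : Group Spor.M23) with mul_comm := hcomm }
    have hp := IsSimpleGroup.prime_card (α := Spor.M23)
    rw [card_m23] at hp
    norm_num at hp
  · exact h

theorem multiplier : Cfsg.HasCyclicSchurMultiplier M24 1 := by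
  obtain ⟨hcodes, hk, hw, hn, hi0⟩ := codes_eq
  have hle : Spor.M23 ≤ M24 := inf_le_left
  have hmult : Cfsg.HasCyclicSchurMultiplier (Spor.M23.subgroupOf M24) 1 :=
    multiplier_of_equiv (Subgroup.subgroupOfEquivOfLe hle).symm M23.multiplier
  have hperf : commutator (Spor.M23.subgroupOf M24) = ⊤ := by
    have e : Spor.M23 ≃* Spor.M23.subgroupOf M24 := (Subgroup.subgroupOfEquivOfLe hle).symm
    rw [commutator_def, ← Subgroup.map_top_of_surjective e.toMonoidHom e.surjective,
      ← Subgroup.map_commutator, ← commutator_def, commutator_m23]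
  let g : ℕ → M24 := fun s =>
    if hs : s < split.k then ⟨_, (mem_M24_of_check (allB_spec mem_ok (split.codes.getD s 0)
      (by rw [List.getD_eq_getElem _ _ (hk ▸ hs)]; exact List.getElem_mem _))).2⟩ else 1
  let e24n : Fin split.n ≃ Fin 24 := finCongr hn
  let ι : M24 →* Equiv.Perm (Fin split.n) :=
    ((e24n.trans e24).symm.permCongrHom).toMonoidHom.comp M24.subtype
  refine trivial_multiplier_of_split (H := Spor.M23.subgroupOf M24) ⟨shape_ok, eqs_ok, vars_ok, ord_ok.1⟩
    ord_ok.2
    ι ?_ g ?_ ?_ ?_ hperf hmult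
  · exact ((e24n.trans e24).symm.permCongrHom).injective.comp (Subgroup.subtype_injective _)
  · intro s hs x
    have hg : (g s : Equiv.Perm GolayPt) = rep24.den (split.codes.getD s 0) := by simp [g, dif_pos hs]
    have hmem := allB_spec mem_ok (split.codes.getD s 0)
      (by rw [List.getD_eq_getElem _ _ (hk ▸ hs)]; exact List.getElem_mem _)
    have hok := (mem_M24_of_check hmem).1
    have hx : (x : ℕ) < 24 := hn ▸ x.2
    have h1 := rep24.act_spec (split.codes.getD s 0) x hok (show (x : ℕ) < 24 from hx)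
    rw [rep24_pt hx, Equiv.Perm.smul_def,
      rep24_pt (show rep24.act (split.codes.getD s 0) x < 24 from rep24.act_lt _ _ hok hx)] at h1
    show (((e24n.trans e24).symm.permCongr (g s : Equiv.Perm GolayPt)) x : ℕ) = _
    rw [Equiv.permCongr_apply, Equiv.symm_symm, hg, Equiv.trans_apply,
      show e24n x = ⟨x, hx⟩ from rfl, h1, hw]
    simp [e24n]
    rfl
  · rw [eq_top_iff]
    rintro ⟨x, hx⟩ -
    have hle' : Subgroup.closure (rep24.den '' {c | c ∈ topGens m24aChain}) ≤
        (Subgroup.closure (g '' {s | s < split.k})).map M24.subtype := by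
      rw [Subgroup.closure_le]
      rintro _ ⟨c, hc, rfl⟩
      obtain ⟨s, hs, rfl⟩ := List.getElem_of_mem (hcodes ▸ hc : c ∈ split.codes)
      refine ⟨g s, Subgroup.subset_closure ⟨s, hk ▸ hs, rfl⟩, ?_⟩
      show (g s : Equiv.Perm GolayPt) = _
      simp [g, dif_pos (hk ▸ hs : s < split.k), List.getElem?_eq_getElem hs]
    obtain ⟨y, hy, hyx⟩ := hle' (m24_eq ▸ hx : x ∈ rep24.chainGroup m24aChain)
    rwa [show y = ⟨x, hx⟩ from Subtype.ext hyx] at hy
  · intro x hfix
    have hp := hfix ((e24n.trans e24).symm none) (by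
      rw [hi0, ← rep24_pt23, rep24_pt (by norm_num : 23 < 24)]
      simp [e24n])
    rw [Subgroup.mem_subgroupOf, Spor.M23]
    refine ⟨x.2, MulAction.mem_stabilizer_iff.mpr ?_⟩
    have h2 : (e24n.trans e24).symm.permCongr (x : Equiv.Perm GolayPt)
        ((e24n.trans e24).symm none) = (e24n.trans e24).symm none := hp
    rw [Equiv.permCongr_apply, Equiv.symm_symm, Equiv.apply_symm_apply] at h2
    exact (e24n.trans e24).symm.injective h2

end Cfsg.Agent.SporMult.M24
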