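import Cfsg.Agent.SporMult.M12Data
import Cfsg.Agent.Compute.Mathieu
import Cfsg.Agent.GroupSub.M12Base

/-! Checks on the double cover of M12. -/

set_option autoImplicit false
set_option maxHeartbeats 0
set_option maxRecDepth 100000

namespace Cfsg.Agent.SporMult.M12

open Cfsg Cfsg.Agent.Compute Cfsg.Agent.StemCert

/-- The generators as permutations of the 24 points. -/
def gens24 : List ℕ := topGens m12Chain

/-- Permutations of 24 points. -/
noncomputable def rep2 : Rep (Equiv.Perm (Fin 24)) (Fin 24) :=
  permRep 5 24 (Equiv.refl _) (by norm_num) (by norm_num)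

/-- The code of a product of commutators of lifts. -/
noncomputable def commCode (l : List (ℕ × ℕ)) : ℕ :=
  List.rec (motive := fun _ => ℕ) (idCode 5 24)
    (fun p _ r => compCode 5 24
      (compCode 5 24 (compCode 5 24 (compCode 5 24 (lifts.getD p.1 0) (lifts.getD p.2 0))
        (liftInvs.getD p.1 0)) (liftInvs.getD p.2 0)) r) l

theorem shape_ok : split.shapeOK = true := by decide +kernel

theorem eqs_ok : split.eqsOK split.eqs split.packs = true := by decide +kernel

theorem vars_ok : allBelow (Nat.mul split.k split.n) split.varOK = true := by decide +kernel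

theorem ord_ok : split.ordOK = true := by decide +kernel

theorem len_ok : gens24.length = 6 ∧ lifts.length = 6 ∧ codes12.length = 6 := by decide +kernel

theorem dod_ok : allBelow 12 (fun i => Nat.blt (dodPts.getD i 0) 24 &&
    dodecadMask.testBit (dodPts.getD i 0) && allBelow i fun j =>
      !Nat.beq (dodPts.getD i 0) (dodPts.getD j 0)) = true := by decide +kernel

theorem gens_ok : allBelow 6 (fun s => (inM24B (gens24.getD s 0) &&
    Nat.beq (imgMask (gens24.getD s 0) dodecadMask) dodecadMask) && allBelow 12 fun i =>
      Nat.blt (getField 5 (codes12.getD s 0) i) 12 &&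
      Nat.beq (getField 5 (gens24.getD s 0) (dodPts.getD i 0))
        (dodPts.getD (getField 5 (codes12.getD s 0) i) 0)) = true := by decide +kernel

theorem cover_check : rep2.checkChain coverChain = true := by decide +kernel

theorem cover_size : chainSize coverChain = 190080 := by decide +kernel

theorem cover_codes : allBelow 6 (fun s => memB (lifts.getD s 0) (topGens coverChain) &&
    codePermB 5 24 (lifts.getD s 0) &&
    Nat.beq (compCode 5 24 (lifts.getD s 0) swapCode) (compCode 5 24 swapCode (lifts.getD s 0)) &&
    Nat.beq (compCode 5 24 (liftInvs.getD s 0) (lifts.getD s 0)) (idCode 5 24) &&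
    codePermB 5 24 (liftInvs.getD s 0) &&
    allBelow 12 fun i => Nat.beq (Nat.div (getField 5 (lifts.getD s 0) (Nat.mul 2 i)) 2)
      (getField 5 (codes12.getD s 0) i)) = true := by decide +kernel

theorem swap_ok : (codePermB 5 24 swapCode && Nat.beq (commCode swapPairs) swapCode &&
    allB (fun p => Nat.blt p.1 6 && Nat.blt p.2 6) swapPairs &&
    allBelow 24 (fun x => Nat.beq (Nat.div (getField 5 swapCode x) 2) (Nat.div x 2)) &&
    allBelow 12 (fun i => Nat.beq (getField 5 swapCode (Nat.mul 2 i)) (Nat.add (Nat.mul 2 i) 1))) =
      true := by decide +kernel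

end Cfsg.Agent.SporMult.M12
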