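import Cfsg.Agent.SporMult.M11
import Cfsg.Agent.SporMult.M12Check
import Cfsg.Agent.StemCert.Split
import Cfsg.Agent.Compute.Mathieu

/-!
The Schur multiplier of M12 has order 2: the double cover acts on 24 points in 12 pairs, and the
cocycle on the 12 points of the dodecad over M11 bounds every stem extension.
-/

set_option autoImplicit false
set_option maxHeartbeats 2000000
set_option maxRecDepth 100000

namespace Cfsg.Agent.SporMult.M12

open Cfsg Cfsg.Agent.Compute Cfsg.Agent.StemCert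
open scoped commutatorElement Pointwise

theorem valid : split.Valid := ⟨shape_ok, eqs_ok, vars_ok, ord_ok⟩




theorem dodPts_spec {i : ℕ} (hi : i < 12) :
    dodPts.getD i 0 < 24 ∧ rep24.pt (dodPts.getD i 0) ∈ Spor.squareDodecad := by
  have h := allBelow_eq_true.mp dod_ok i hi
  simp only [Bool.and_eq_true, Nat.blt_eq] at h
  refine ⟨h.1.1, ?_⟩
  rw [squareDodecad_eq, mem_suppM, ptIdx_rep24 h.1.1]
  exact h.1.2

theorem card_dod : Nat.card {p // p ∈ Spor.squareDodecad} = 12 := by
  rw [Nat.card_eq_fintype_card, Fintype.card_coe, squareDodecad_eq, card_suppM]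
  decide +kernel

/-- The numbering of the dodecad. -/
noncomputable def eD : Fin 12 ≃ {p // p ∈ Spor.squareDodecad} :=
  Equiv.ofBijective (fun i => ⟨rep24.pt (dodPts.getD i 0), (dodPts_spec i.2).2⟩) (by
    rw [Fintype.bijective_iff_injective_and_card]
    refine ⟨fun i j h => ?_, by rw [← Nat.card_eq_fintype_card (α := {p // p ∈ Spor.squareDodecad}),
      card_dod, Fintype.card_fin]⟩
    have he := rep24.pt_inj _ _ (dodPts_spec i.2).1 (dodPts_spec j.2).1 (congrArg Subtype.val h)
    rcases lt_trichotomy (i : ℕ) j with hl | hl | hl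
    · have h' := allBelow_eq_true.mp dod_ok j j.2
      simp only [Bool.and_eq_true, allBelow_eq_true] at h'
      have h'' := h'.2 i hl
      rw [← he] at h''
      simp at h''
    · exact Fin.ext hl
    · have h' := allBelow_eq_true.mp dod_ok i i.2
      simp only [Bool.and_eq_true, allBelow_eq_true] at h'
      have h'' := h'.2 j hl
      rw [he] at h''
      simp at h'')

theorem invariant (σ : Spor.M12) (p : GolayPt) :
    (σ : Equiv.Perm GolayPt) p ∈ Spor.squareDodecad ↔ p ∈ Spor.squareDodecad := by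
  have h : (σ : Equiv.Perm GolayPt) • Spor.squareDodecad = Spor.squareDodecad :=
    MulAction.mem_stabilizer_iff.mp σ.2.2
  conv_lhs => rw [← h]
  exact Finset.smul_mem_smul_finset_iff (σ : Equiv.Perm GolayPt)

/-- The action on the dodecad. -/
noncomputable def ι : Spor.M12 →* Equiv.Perm (Fin 12) :=
  (eD.symm.permCongrHom).toMonoidHom.comp (MonoidHom.mk'
    (fun σ => (σ : Equiv.Perm GolayPt).subtypePerm (invariant σ)) (fun σ τ => rfl))

theorem ι_apply (σ : Spor.M12) (i : Fin 12) :
    (eD (ι σ i) : GolayPt) = (σ : Equiv.Perm GolayPt) (rep24.pt (dodPts.getD i 0)) := by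
  show (eD (eD.symm.permCongr ((σ : Equiv.Perm GolayPt).subtypePerm (invariant σ)) i) : GolayPt) = _
  rw [Equiv.permCongr_apply, Equiv.symm_symm, Equiv.apply_symm_apply]
  rfl

theorem ι_injective : Function.Injective ι := by
  rw [injective_iff_map_eq_one]
  intro σ hσ
  refine Subtype.ext (m12_eq_one_of_fixes σ.2 fun p hp => ?_)
  rw [mem_maskSet_coDodecad, ← squareDodecad_eq] at hp
  obtain ⟨i, hi⟩ := eD.surjective ⟨p, hp⟩
  have h := ι_apply σ i
  rw [hσ, Equiv.Perm.one_apply, hi] at h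
  have hp' : rep24.pt (dodPts.getD i 0) = p := congrArg Subtype.val hi
  rw [hp'] at h
  exact h.symm

/-- The generators. -/
noncomputable def g (s : ℕ) : Spor.M12 :=
  if hs : s < 6 then ⟨rep24.den (gens24.getD s 0), (GroupSub.M12Base.mem_M12_of_check (by
    have := allBelow_eq_true.mp gens_ok s hs
    simp only [Bool.and_eq_true] at this ⊢
    exact this.1)).2⟩ else 1

theorem g_coded : Coded (w := 5) (k := 6) ι g codes12 := by
  intro s hs x
  have hs6 : s < 6 := hs
  have h := allBelow_eq_true.mp gens_ok s hs6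
  simp only [Bool.and_eq_true, allBelow_eq_true, Nat.blt_eq, Nat.beq_eq] at h
  obtain ⟨hgd, h⟩ := h
  obtain ⟨hlt, he⟩ := h x x.2
  have hok := (mem_M24_of_check hgd.1).1
  have hx := dodPts_spec x.2
  have h1 := rep24.act_spec (gens24.getD s 0) _ hok hx.1
  have h2 : (eD (ι (g s) x) : GolayPt) = eD ⟨_, hlt⟩ := by
    rw [ι_apply]
    show _ = rep24.pt (dodPts.getD _ 0)
    rw [← he]
    simp only [g, dif_pos hs6]
    exact h1
  exact congrArg Fin.val (eD.injective (Subtype.ext h2))

theorem g_gen : Subgroup.closure (g '' {s | s < 6}) = ⊤ := by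
  rw [eq_top_iff]
  rintro ⟨x, hx⟩ -
  have hle : rep24.chainGroup m12Chain ≤
      (Subgroup.closure (g '' {s | s < 6})).map Spor.M12.subtype := by
    rw [Rep.chainGroup, Rep.span, Subgroup.closure_le]
    rintro _ ⟨c, hc, rfl⟩
    obtain ⟨s, hs, rfl⟩ := List.getElem_of_mem (hc : c ∈ gens24)
    have hs6 : s < 6 := len_ok.1 ▸ hs
    refine ⟨g s, Subgroup.subset_closure ⟨s, hs6, rfl⟩, ?_⟩
    show (g s : Equiv.Perm GolayPt) = _
    have e : gens24.getD s 0 = gens24[s] := List.getD_eq_getElem _ _ hs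
    simp only [g, dif_pos hs6, e]
    rfl
  obtain ⟨y, hy, hyx⟩ := hle (sporM12_eq ▸ hx : x ∈ rep24.chainGroup m12Chain)
  rwa [show y = ⟨x, hx⟩ from Subtype.ext hyx] at hy

theorem mem_M11_of_fix (σ : Spor.M12) (h : ∀ p : Fin 12, (p : ℕ) = 0 → ι σ p = p) :
    σ ∈ Spor.M11.subgroupOf Spor.M12 := by
  have h0 := h (0 : Fin 12) rfl
  rw [Subgroup.mem_subgroupOf, Spor.M11]
  refine ⟨σ.2, MulAction.mem_stabilizer_iff.mpr ?_⟩
  have := ι_apply σ 0
  rw [h0] at this
  change rep24.pt 0 = (σ : Equiv.Perm GolayPt) (rep24.pt 0) at this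
  rw [rep24_pt0] at this
  exact this.symm

theorem commutator_m11 : commutator (Spor.M11.subgroupOf Spor.M12) = ⊤ := by
  have e : Spor.M11 ≃* Spor.M11.subgroupOf Spor.M12 :=
    (Subgroup.subgroupOfEquivOfLe (inf_le_left : Spor.M11 ≤ Spor.M12)).symm
  have := isSimpleGroup_m11
  have hperf : commutator Spor.M11 = ⊤ := by
    rcases (inferInstance : (commutator Spor.M11).Normal).eq_bot_or_eq_top with h | h
    · exfalso
      have hcomm : ∀ a b : Spor.M11, a * b = b * a := fun a b => by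
        have : ⁅a, b⁆ ∈ commutator Spor.M11 :=
          Subgroup.commutator_mem_commutator (Subgroup.mem_top a) (Subgroup.mem_top b)
        rwa [h, Subgroup.mem_bot, commutatorElement_eq_one_iff_mul_comm] at this
      let _ : CommGroup Spor.M11 := { (inferInstance : Group Spor.M11) with mul_comm := hcomm }
      have hp := IsSimpleGroup.prime_card (α := Spor.M11)
      rw [card_m11] at hp
      norm_num at hp
    · exact h
  rw [commutator_def, ← Subgroup.map_top_of_surjective e.toMonoidHom e.surjective,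
    ← Subgroup.map_commutator, ← commutator_def, hperf]

theorem multiplier_m11 : Cfsg.HasCyclicSchurMultiplier (Spor.M11.subgroupOf Spor.M12) 1 := by
  have hid : (MonoidHom.id Spor.M11).ker = ⊥ :=
    (MonoidHom.ker_eq_bot_iff _).mpr Function.injective_id
  let e : Spor.M11.subgroupOf Spor.M12 ≃* Spor.M11 :=
    Subgroup.subgroupOfEquivOfLe (inf_le_left : Spor.M11 ≤ Spor.M12)
  have hk : e.toMonoidHom.ker = ⊥ := (MonoidHom.ker_eq_bot_iff _).mpr e.injective
  refine ⟨⟨_, inferInstance, inferInstance, MonoidHom.id _,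
    ⟨Function.surjective_id, ?_, ?_⟩, ?_⟩, fun Γ _ _ σ hσ => ?_⟩
  · rw [(MonoidHom.ker_eq_bot_iff (MonoidHom.id _)).mpr Function.injective_id]; exact bot_le
  · rw [(MonoidHom.ker_eq_bot_iff (MonoidHom.id _)).mpr Function.injective_id]; exact bot_le
  · have : Subsingleton (MonoidHom.id (Spor.M11.subgroupOf Spor.M12)).ker := by
      rw [(MonoidHom.ker_eq_bot_iff _).mpr Function.injective_id]; infer_instance
    have : Unique (MonoidHom.id (Spor.M11.subgroupOf Spor.M12)).ker := uniqueOfSubsingleton 1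
    exact ⟨MulEquiv.ofUnique⟩
  · have hke : (e.toMonoidHom.comp σ).ker = σ.ker := by
      ext x; simp [MonoidHom.mem_ker]
    obtain ⟨π, hπ⟩ := M11.multiplier.2 Γ (e.toMonoidHom.comp σ)
      ⟨e.surjective.comp hσ.1, hke ▸ hσ.2⟩
    exact ⟨(MulEquiv.subgroupCongr hke).toMonoidHom.comp π,
      (MulEquiv.subgroupCongr hke).surjective.comp hπ⟩




/-- The exchange of the two sheets. -/
noncomputable def tau : Equiv.Perm (Fin 24) := rep2.den swapCode

theorem act2 {c : ℕ} (hc : rep2.Ok c) (x : Fin 24) :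
    ((rep2.den c x : Fin 24) : ℕ) = getField 5 c x := by
  rw [show x = (Equiv.refl (Fin 24)) x from rfl]
  exact congrArg Fin.val (denPerm_apply (Equiv.refl (Fin 24)) hc x)

theorem rep2_mul (a b : ℕ) : rep2.mul a b = compCode 5 24 a b := by
  unfold rep2 permRep
  with_reducible rfl

theorem rep2_one : rep2.one = idCode 5 24 := by
  unfold rep2 permRep
  with_reducible rfl

attribute [local irreducible] compCode idCode lifts liftInvs swapCode coverChain codes12 swapPairs

theorem tau_spec : rep2.Ok swapCode ∧ (∀ x : Fin 24, ((tau x : Fin 24) : ℕ) / 2 = (x : ℕ) / 2) ∧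
    ∀ x : Fin 24, (x : ℕ) % 2 = 0 → ((tau x : Fin 24) : ℕ) = x + 1 := by
  have h := swap_ok
  simp only [Bool.and_eq_true, allBelow_eq_true, Nat.beq_eq] at h
  obtain ⟨⟨⟨⟨hok, -⟩, -⟩, hdiv⟩, heven⟩ := h
  refine ⟨rep2.okb_sound _ hok, fun x => ?_, fun x hx => ?_⟩
  · rw [tau, act2 (rep2.okb_sound _ hok)]
    exact hdiv x x.2
  · rw [tau, act2 (rep2.okb_sound _ hok)]
    have hx2 : 2 * ((x : ℕ) / 2) = x := by omega
    have := heven ((x : ℕ) / 2) (by omega)
    rw [show Nat.mul 2 ((x : ℕ) / 2) = x from hx2] at this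
    exact this

/-- Permutations commuting with the exchange. -/
noncomputable def cent : Subgroup (Equiv.Perm (Fin 24)) := Subgroup.centralizer {tau}

theorem half_apply (σ : cent) (x : Fin 24) :
    (((σ : Equiv.Perm (Fin 24)) x : Fin 24) : ℕ) / 2 =
      ((((σ : Equiv.Perm (Fin 24)) ⟨2 * ((x : ℕ) / 2), by omega⟩ : Fin 24)) : ℕ) / 2 := by
  rcases Nat.mod_two_eq_zero_or_one (x : ℕ) with h | h
  · congr
    exact Fin.ext (by simp only; omega)
  · have hx : tau ⟨2 * ((x : ℕ) / 2), by omega⟩ = x :=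
      Fin.ext (by rw [tau_spec.2.2 _ (by simp)]; simp only; omega)
    have hcomm : (σ : Equiv.Perm (Fin 24)) * tau = tau * (σ : Equiv.Perm (Fin 24)) :=
      (Subgroup.mem_centralizer_iff.mp σ.2 tau rfl).symm
    conv_lhs => rw [← hx, ← Equiv.Perm.mul_apply, hcomm, Equiv.Perm.mul_apply, tau_spec.2.1]

/-- The action on the pairs. -/
def qfun (σ : Equiv.Perm (Fin 24)) (i : Fin 12) : Fin 12 :=
  ⟨(σ ⟨2 * (i : ℕ), by omega⟩ : ℕ) / 2, by omega⟩

theorem qfun_mul (σ τ : cent) (i : Fin 12) :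
    qfun ((σ * τ : cent) : Equiv.Perm (Fin 24)) i =
      qfun (σ : Equiv.Perm (Fin 24)) (qfun (τ : Equiv.Perm (Fin 24)) i) := by
  apply Fin.ext
  exact half_apply σ _

/-- The action on the pairs, as a homomorphism. -/
noncomputable def q : cent →* Equiv.Perm (Fin 12) :=
  MonoidHom.mk' (fun σ => (
    { toFun := qfun (σ : Equiv.Perm (Fin 24))
      invFun := qfun ((σ⁻¹ : cent) : Equiv.Perm (Fin 24))
      left_inv := fun i => by
        rw [← qfun_mul, inv_mul_cancel]
        exact Fin.ext (by simp [qfun])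
      right_inv := fun i => by
        rw [← qfun_mul, mul_inv_cancel]
        exact Fin.ext (by simp [qfun]) } : Equiv.Perm (Fin 12)))
    (fun σ τ => Equiv.ext (qfun_mul σ τ))

/-- The double cover. -/
noncomputable def cover : Subgroup (Equiv.Perm (Fin 24)) :=
  Subgroup.closure ((fun s => rep2.den (lifts.getD s 0)) '' {s | s < 6})

theorem lift_spec {s : ℕ} (hs : s < 6) :
    lifts.getD s 0 ∈ topGens coverChain ∧ rep2.Ok (lifts.getD s 0) ∧
    rep2.den (lifts.getD s 0) ∈ cent ∧
    (rep2.Ok (liftInvs.getD s 0) ∧ rep2.den (liftInvs.getD s 0) = (rep2.den (lifts.getD s 0))⁻¹) ∧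
    ∀ i < 12, getField 5 (lifts.getD s 0) (2 * i) / 2 = getField 5 (codes12.getD s 0) i := by
  have h := allBelow_eq_true.mp cover_codes s hs
  simp only [Bool.and_eq_true, allBelow_eq_true, Nat.beq_eq, memB_eq_true] at h
  obtain ⟨⟨⟨⟨⟨hm, hok⟩, hcomm⟩, hinv⟩, hoki⟩, hq⟩ := h
  have ho := rep2.okb_sound _ hok
  have hoi := rep2.okb_sound _ hoki
  refine ⟨hm, ho, Subgroup.mem_centralizer_iff.mpr ?_, ⟨hoi, eq_inv_of_mul_eq_one_left ?_⟩, hq⟩
  · rintro _ rfl
    rw [tau, ← rep2.den_mul _ _ ho tau_spec.1, ← rep2.den_mul _ _ tau_spec.1 ho, rep2_mul,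
      rep2_mul, hcomm]
  · rw [← rep2.den_mul _ _ hoi ho, rep2_mul, hinv, ← rep2_one]
    exact rep2.den_one

theorem cover_le_cent : cover ≤ cent := by
  rw [cover, Subgroup.closure_le]
  rintro _ ⟨s, hs, rfl⟩
  exact (lift_spec hs).2.2.1

theorem card_cover_le : Nat.card cover ≤ 190080 := by
  rw [← cover_size, ← rep2.card_chainGroup coverChain cover_check]
  refine Subgroup.card_le_of_le ?_
  rw [cover, Subgroup.closure_le]
  rintro _ ⟨s, hs, rfl⟩
  exact rep2.den_mem_span (lift_spec hs).1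

/-- The lifted generators. -/
noncomputable def lift (s : ℕ) : cover :=
  if hs : s < 6 then ⟨rep2.den (lifts.getD s 0), Subgroup.subset_closure ⟨s, hs, rfl⟩⟩ else 1

theorem commCode_spec : ∀ l : List (ℕ × ℕ), (∀ p ∈ l, p.1 < 6 ∧ p.2 < 6) →
    rep2.Ok (commCode l) ∧ rep2.den (commCode l) = (commProd lift l : cover)
  | [], _ => by
    rw [show commCode [] = idCode 5 24 from rfl, ← rep2_one]
    exact ⟨rep2.ok_one, rep2.den_one⟩
  | p :: l, h => by
    obtain ⟨ha, hb⟩ := h p (by simp)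
    obtain ⟨ih1, ih2⟩ := commCode_spec l fun x hx => h x (by simp [hx])
    obtain ⟨-, oa, -, ⟨oai, da⟩, -⟩ := lift_spec ha
    obtain ⟨-, ob, -, ⟨obi, db⟩, -⟩ := lift_spec hb
    have o1 := rep2.ok_mul _ _ oa ob
    have o2 := rep2.ok_mul _ _ o1 oai
    have o3 := rep2.ok_mul _ _ o2 obi
    have hcc : commCode (p :: l) = rep2.mul (rep2.mul (rep2.mul (rep2.mul (lifts.getD p.1 0)
        (lifts.getD p.2 0)) (liftInvs.getD p.1 0)) (liftInvs.getD p.2 0)) (commCode l) := by
      simp only [rep2_mul]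
      rfl
    rw [hcc]
    refine ⟨rep2.ok_mul _ _ o3 ih1, ?_⟩
    have hv : ∀ s, (hs : s < 6) → (lift s : Equiv.Perm (Fin 24)) = rep2.den (lifts.getD s 0) :=
      fun s hs => by simp [lift, dif_pos hs]
    calc rep2.den (rep2.mul (rep2.mul (rep2.mul (rep2.mul (lifts.getD p.1 0)
          (lifts.getD p.2 0)) (liftInvs.getD p.1 0)) (liftInvs.getD p.2 0)) (commCode l))
        = rep2.den (lifts.getD p.1 0) * rep2.den (lifts.getD p.2 0) *
          rep2.den (liftInvs.getD p.1 0) * rep2.den (liftInvs.getD p.2 0) * rep2.den (commCode l) := by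
          rw [← rep2.den_mul _ _ oa ob, ← rep2.den_mul _ _ o1 oai, ← rep2.den_mul _ _ o2 obi,
            ← rep2.den_mul _ _ o3 ih1]
      _ = ((commProd lift (p :: l) : cover) : Equiv.Perm (Fin 24)) := by
          rw [show commProd lift (p :: l) = ⁅lift p.1, lift p.2⁆ * commProd lift l from rfl,
            commutatorElement_def, da, db, ih2]
          simp only [Subgroup.coe_mul, Subgroup.coe_inv, hv _ ha, hv _ hb]

/-- The covering map onto the permutations of the dodecad. -/
noncomputable def fcov : cover →* Equiv.Perm (Fin 12) :=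
  q.comp (Subgroup.inclusion cover_le_cent)

theorem fcov_lift {s : ℕ} (hs : s < 6) : fcov (lift s) = ι (g s) := by
  obtain ⟨-, ho, -, -, hq⟩ := lift_spec hs
  refine Equiv.ext fun (i : Fin 12) => Fin.ext ?_
  rw [g_coded s hs i]
  show ((lift s : Equiv.Perm (Fin 24)) ⟨2 * (i : ℕ), by omega⟩ : ℕ) / 2 = _
  simp only [lift, dif_pos hs]
  rw [act2 ho]
  exact hq i i.2

theorem fcov_range : fcov.range = ι.range := by
  have h1 : (⊤ : Subgroup cover) = Subgroup.closure (lift '' {s | s < 6}) := by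
    refine le_antisymm ?_ le_top
    rintro ⟨x, hx⟩ -
    have hle : cover ≤ (Subgroup.closure (lift '' {s | s < 6})).map cover.subtype := by
      conv_lhs => rw [cover]
      rw [Subgroup.closure_le]
      rintro _ ⟨s, hs, rfl⟩
      refine ⟨lift s, Subgroup.subset_closure ⟨s, hs, rfl⟩, ?_⟩
      show (lift s : Equiv.Perm (Fin 24)) = _
      simp only [lift, dif_pos (show s < 6 from hs)]
    obtain ⟨y, hy, hyx⟩ := hle hx
    rwa [show y = ⟨x, hx⟩ from Subtype.ext hyx] at hy
  rw [MonoidHom.range_eq_map, MonoidHom.range_eq_map, h1, ← g_gen, MonoidHom.map_closure,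
    MonoidHom.map_closure, Set.image_image, Set.image_image]
  exact congrArg _ (Set.image_congr fun s hs => fcov_lift hs)

/-- The covering map. -/
noncomputable def proj : cover →* Spor.M12 :=
  (MonoidHom.ofInjective ι_injective).symm.toMonoidHom.comp
    (fcov.codRestrict ι.range fun x => fcov_range ▸ MonoidHom.mem_range.mpr ⟨x, rfl⟩)

theorem proj_spec (x : cover) : ι (proj x) = fcov x :=
  congrArg Subtype.val ((MonoidHom.ofInjective ι_injective).apply_symm_apply
    (fcov.codRestrict ι.range (fun x => fcov_range ▸ MonoidHom.mem_range.mpr ⟨x, rfl⟩) x))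

theorem proj_surjective : Function.Surjective proj := by
  intro y
  obtain ⟨x, hx⟩ := MonoidHom.mem_range.mp (fcov_range ▸ MonoidHom.mem_range.mpr ⟨y, rfl⟩ :
    ι y ∈ fcov.range)
  exact ⟨x, ι_injective ((proj_spec x).trans hx)⟩

theorem exists_stem : ∃ (Γ : Type) (_ : Group Γ) (_ : Finite Γ) (σ : Γ →* Spor.M12),
    Cfsg.IsStemExtension σ ∧ Nonempty (σ.ker ≃* Multiplicative (ZMod 2)) := by
  have hsw := swap_ok
  simp only [Bool.and_eq_true, allBelow_eq_true, Nat.beq_eq] at hsw
  obtain ⟨⟨⟨⟨-, hcode⟩, hlt⟩, -⟩, -⟩ := hsw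
  obtain ⟨-, hc⟩ := commCode_spec swapPairs fun p hp => by
    simpa [Bool.and_eq_true, Nat.blt_eq] using allB_spec hlt p hp
  let z : cover := commProd lift swapPairs
  have hz : (z : Equiv.Perm (Fin 24)) = tau := by rw [← hc, hcode]; rfl
  have hzker : z ∈ proj.ker := by
    rw [MonoidHom.mem_ker]
    apply ι_injective
    rw [proj_spec, map_one]
    refine Equiv.ext fun (i : Fin 12) => Fin.ext ?_
    show ((z : Equiv.Perm (Fin 24)) ⟨2 * (i : ℕ), by omega⟩ : ℕ) / 2 = (i : ℕ)
    rw [hz, tau_spec.2.1]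
    simp
  have hz1 : z ≠ 1 := fun h => by
    have := tau_spec.2.2 0 rfl
    rw [← hz, h] at this
    simp at this
  have hcard : Nat.card proj.ker = 2 := by
    have h1 := (Subgroup.card_mul_index proj.ker)
    rw [Subgroup.index_ker, MonoidHom.range_eq_top.mpr proj_surjective, Subgroup.card_top,
      card_m12] at h1
    have h2 : 1 < Nat.card proj.ker := by
      rw [Finite.one_lt_card_iff_nontrivial]
      exact ⟨⟨⟨z, hzker⟩, 1, fun h => hz1 (congrArg Subtype.val h)⟩⟩
    have h3 := card_cover_le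
    rw [← h1] at h3
    generalize Nat.card proj.ker = c at h2 h3 ⊢
    nlinarith only [h2, h3]
  have hker : proj.ker = Subgroup.zpowers z := by
    refine (Subgroup.eq_of_le_of_card_ge ((Subgroup.zpowers_le).mpr hzker) ?_).symm
    rw [hcard]
    exact Finite.one_lt_card_iff_nontrivial.mpr
      ⟨⟨⟨z, Subgroup.mem_zpowers z⟩, 1, fun h => hz1 (congrArg Subtype.val h)⟩⟩
  refine ⟨cover, inferInstance, inferInstance, proj, ⟨proj_surjective, ?_, ?_⟩, ?_⟩
  · rw [hker, Subgroup.zpowers_le, Subgroup.mem_center_iff]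
    intro x
    apply Subtype.ext
    show (x : Equiv.Perm (Fin 24)) * (z : Equiv.Perm (Fin 24)) = _ * _
    rw [hz]
    exact (Subgroup.mem_centralizer_iff.mp (cover_le_cent x.2) tau rfl).symm
  · rw [hker, Subgroup.zpowers_le]
    refine list_prod_mem fun y hy => ?_
    obtain ⟨p, -, rfl⟩ := List.mem_map.mp hy
    exact Subgroup.commutator_mem_commutator (Subgroup.mem_top _) (Subgroup.mem_top _)
  · exact ⟨mulEquivOfPrimeCardEq (p := 2) hcard (by simp)⟩

theorem multiplier : Cfsg.HasCyclicSchurMultiplier Spor.M12 2 := by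
  refine ⟨exists_stem, fun Γ _ _ σ hσ => ?_⟩
  obtain ⟨u, hu, hle⟩ := exists_kernel_generator valid ι ι_injective g g_coded g_gen
    mem_M11_of_fix commutator_m11 multiplier_m11 σ hσ
  have hu2 : u ^ 2 = 1 := hu
  by_cases hmem : u ∈ σ.ker
  · let v : σ.ker := ⟨u, hmem⟩
    let f : ZMod 2 →+ Additive σ.ker := ZMod.lift 2
      ⟨zmultiplesHom (Additive σ.ker) (Additive.ofMul v), by
        simp only [zmultiplesHom_apply, natCast_zsmul]
        exact congrArg Additive.ofMul (Subtype.ext hu2 : v ^ 2 = 1)⟩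
    refine ⟨AddMonoidHom.toMultiplicativeLeft f, fun x => ?_⟩
    obtain ⟨m, hm⟩ := hle x.2
    refine ⟨Multiplicative.ofAdd (m : ZMod 2), Subtype.ext ?_⟩
    show ((Additive.toMul (f (m : ZMod 2)) : σ.ker) : Γ) = x
    rw [ZMod.lift_coe]
    exact hm
  · refine ⟨1, fun x => ⟨1, Subtype.ext ?_⟩⟩
    obtain ⟨m, hm⟩ := hle x.2
    show (1 : Γ) = x
    have hm' : u ^ m = (x : Γ) := hm
    rcases Int.emod_two_eq_zero_or_one m with h | h
    · rw [← hm', zpow_eq_zpow_emod' m hu2, show m % ((2 : ℕ) : ℤ) = 0 from h, zpow_zero]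
    · exfalso
      apply hmem
      have : u ^ m = u := by
        rw [zpow_eq_zpow_emod' m hu2, show m % ((2 : ℕ) : ℤ) = 1 from h, zpow_one]
      rw [← this, hm']
      exact x.2

end Cfsg.Agent.SporMult.M12
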