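import Cfsg.Agent.SporMult.M11Check
import Cfsg.Agent.GroupSub.M12Base

/-! The Schur multiplier of M11 is trivial. -/

set_option autoImplicit false

namespace Cfsg.Agent.SporMult.M11

open Cfsg Cfsg.Agent.Compute Cfsg.Agent.StemCert
open scoped Pointwise

theorem size_ok : numForms cert.D = 7920 ∧ cert.md = 7920 := by decide +kernel

theorem multiplier : Cfsg.HasCyclicSchurMultiplier Cfsg.Spor.M11 1 := by
  refine trivial_of_cert checks (fun s hs => ?_) ?_ ?_
  · have h := allBelow_eq_true.mp mem_ok s hs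
    rw [memTest, Bool.and_eq_true, Nat.beq_eq] at h
    obtain ⟨hok, hm⟩ := GroupSub.M12Base.mem_M12_of_check h.1
    refine ⟨hok, hm, MulAction.mem_stabilizer_iff.2 ?_⟩
    have e := rep24.act_spec _ 0 hok (show 0 < rep24.n from (by decide : 0 < 24))
    rw [h.2, GroupSub.M12Base.pt_zero] at e
    exact e
  · rw [GroupSub.M12Base.card_m11]; exact size_ok.1
  · rw [GroupSub.M12Base.card_m11, size_ok.2]

end Cfsg.Agent.SporMult.M11
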