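import Cfsg.Agent.SporMult.M22Chain
import Cfsg.Agent.SporMult.M22Check
import Cfsg.Agent.Compute.Mathieu
import Cfsg.Prelude.Def_KGroupFacts

/-!
The Schur multiplier of M22 is cyclic of order 12: a certificate on the 24 points bounds every stem
extension, and a cover permutes twenty-four sheets over 24 + 231 + 616 blocks.
-/

set_option autoImplicit false
set_option maxHeartbeats 2000000
set_option maxRecDepth 100000

namespace Cfsg.Agent.SporMult.M22

open Cfsg Cfsg.Agent.Compute Cfsg.Agent.StemCert Cfsg.Agent.StemCert.CyclicSheets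
open scoped commutatorElement

/-- The code of a product of commutators of lifts. -/
noncomputable def commCode (l : List (ℕ × ℕ)) : ℕ :=
  List.rec (motive := fun _ => ℕ) (cId 15 24 871)
    (fun p _ r => cMul 15 24 871
      (cMul 15 24 871 (cMul 15 24 871 (cMul 15 24 871 (lifts.getD p.1 0) (lifts.getD p.2 0))
        (liftInvs.getD p.1 0)) (liftInvs.getD p.2 0)) r) l

/-- A power of a code. -/
noncomputable def powCode (c n : ℕ) : ℕ :=
  Nat.rec (motive := fun _ => ℕ) (cId 15 24 871) (fun _ y => cMul 15 24 871 c y) n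

/-- A power of a code applied to a point. -/
noncomputable def iterPt (c n x : ℕ) : ℕ :=
  Nat.rec (motive := fun _ => ℕ) x (fun _ y => cAct 15 24 c y) n

theorem cover_codes : allBelow 6 (fun s => memB (lifts.getD s 0) (topGens coverChain) &&
    cOkB 15 24 871 (lifts.getD s 0) && cOkB 15 24 871 (liftInvs.getD s 0) &&
    Nat.beq (cMul 15 24 871 (liftInvs.getD s 0) (lifts.getD s 0)) (cId 15 24 871) &&
    Nat.beq (cMul 15 24 871 (lifts.getD s 0) centCode) (cMul 15 24 871 centCode (lifts.getD s 0)) &&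
    allBelow 24 (fun q => Nat.beq (cAct 15 24 (lifts.getD s 0) (Nat.mul 24 q))
      (Nat.mul 24 (getField 5 (codes.getD s 0) q)))) = true := by decide +kernel

theorem cent_codes : (cOkB 15 24 871 centCode &&
    allB (fun p => Nat.blt p.1 6 && Nat.blt p.2 6) centPairs &&
    Nat.beq (commCode centPairs) centCode &&
    Nat.beq (powCode centCode 12) (cId 15 24 871) &&
    allBelow 12 (fun a => Nat.beq a 0 || !(Nat.beq (iterPt centCode a 576) 576 &&
      Nat.beq (iterPt centCode a 6120) 6120)) &&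
    allBelow 24 (fun q => Nat.beq (cAct 15 24 centCode (Nat.mul 24 q)) (Nat.mul 24 q))) = true := by
  decide +kernel

attribute [local irreducible] cMul cId lifts liftInvs centCode coverChain codes centPairs

theorem rep_mul (a b : ℕ) : rep24s.mul a b = cMul 15 24 871 a b := by
  unfold rep24s sheetRep
  with_reducible rfl

theorem rep_one : rep24s.one = cId 15 24 871 := by
  unfold rep24s sheetRep
  with_reducible rfl

theorem act24s {c : ℕ} (hc : rep24s.Ok c) (x : Fin 20904) :
    ((rep24s.den c x : Fin 20904) : ℕ) = cAct 15 24 c x :=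
  cDen_apply (w := 15) (m := 24) (n := 871) (N := 20904) (hm := by norm_num) (hN := rfl) hc x

theorem lift_spec {s : ℕ} (hs : s < 6) :
    lifts.getD s 0 ∈ topGens coverChain ∧ rep24s.Ok (lifts.getD s 0) ∧
    (rep24s.Ok (liftInvs.getD s 0) ∧
      rep24s.den (liftInvs.getD s 0) = (rep24s.den (lifts.getD s 0))⁻¹) ∧
    cMul 15 24 871 (lifts.getD s 0) centCode = cMul 15 24 871 centCode (lifts.getD s 0) ∧
    ∀ q < 24, cAct 15 24 (lifts.getD s 0) (24 * q) = 24 * getField 5 (codes.getD s 0) q := by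
  have h := allBelow_eq_true.mp cover_codes s hs
  simp only [Bool.and_eq_true, allBelow_eq_true, Nat.beq_eq, memB_eq_true] at h
  obtain ⟨⟨⟨⟨⟨hm, hok⟩, hoki⟩, hinv⟩, hcomm⟩, hq⟩ := h
  have ho := rep24s.okb_sound _ hok
  have hoi := rep24s.okb_sound _ hoki
  refine ⟨hm, ho, ⟨hoi, eq_inv_of_mul_eq_one_left ?_⟩, hcomm, hq⟩
  rw [← rep24s.den_mul _ _ hoi ho, rep_mul, hinv, ← rep_one]
  exact rep24s.den_one

theorem powCode_spec {c : ℕ} (hc : rep24s.Ok c) :
    ∀ n, rep24s.Ok (powCode c n) ∧ rep24s.den (powCode c n) = rep24s.den c ^ n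
  | 0 => by
    rw [show powCode c 0 = cId 15 24 871 from rfl, ← rep_one, pow_zero]
    exact ⟨rep24s.ok_one, rep24s.den_one⟩
  | n + 1 => by
    obtain ⟨h1, h2⟩ := powCode_spec hc n
    rw [show powCode c (n + 1) = cMul 15 24 871 c (powCode c n) from rfl, ← rep_mul]
    exact ⟨rep24s.ok_mul _ _ hc h1, by rw [rep24s.den_mul _ _ hc h1, h2, pow_succ']⟩

theorem pow_iterPt {c : ℕ} (hc : rep24s.Ok c) : ∀ (n : ℕ) (x : Fin 20904),
    ((rep24s.den c ^ n) x : ℕ) = iterPt c n x
  | 0, _ => rfl
  | n + 1, x => by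
    rw [pow_succ', Equiv.Perm.mul_apply, act24s hc, pow_iterPt hc n x]
    rfl

theorem cent_spec : rep24s.Ok centCode ∧
    (∀ p ∈ centPairs, p.1 < 6 ∧ p.2 < 6) ∧ commCode centPairs = centCode ∧
    rep24s.den centCode ^ 12 = 1 ∧
    (∀ a : ℕ, a < 12 → rep24s.den centCode ^ a = 1 → a = 0) ∧
    ∀ q < 24, cAct 15 24 centCode (24 * q) = 24 * q := by
  have h := cent_codes
  simp only [Bool.and_eq_true, allBelow_eq_true, Nat.beq_eq] at h
  obtain ⟨⟨⟨⟨⟨hok, hp⟩, hc⟩, h12⟩, hfree⟩, hfix⟩ := h
  have ho := rep24s.okb_sound _ hok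
  refine ⟨ho, fun p hp' => by simpa [Nat.blt_eq] using allB_spec hp p hp', hc, ?_, fun a ha e => ?_, hfix⟩
  · rw [← (powCode_spec ho 12).2, h12, ← rep_one, rep24s.den_one]
  · by_contra h0
    have e1 := pow_iterPt ho a ⟨576, by norm_num⟩
    have e2 := pow_iterPt ho a ⟨6120, by norm_num⟩
    rw [e] at e1 e2
    have hh := hfree a ha
    rw [show Nat.beq a 0 = false from Bool.eq_false_iff.mpr (by simpa [Nat.beq_eq] using h0),
      Bool.false_or, Bool.not_eq_true', ← Bool.not_eq_true, Bool.and_eq_true, Nat.beq_eq, Nat.beq_eq] at hh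
    exact hh ⟨e1.symm, e2.symm⟩

/-- The action on the 24 points. -/
noncomputable def ι : Spor.M22 →* Equiv.Perm (Fin 24) :=
  (e24.symm.permCongrHom).toMonoidHom.comp Spor.M22.subtype

theorem ι_injective : Function.Injective ι :=
  e24.symm.permCongrHom.injective.comp Subtype.val_injective

theorem mem_m22 {s : ℕ} (hs : s < 6) :
    rep24.Ok (codes.getD s 0) ∧ rep24.den (codes.getD s 0) ∈ Spor.M22 := by
  have h := allBelow_eq_true.mp mem_ok s hs
  rw [memTest, Bool.and_eq_true, Bool.and_eq_true, Nat.beq_eq, Nat.beq_eq] at h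
  obtain ⟨hok, hm⟩ := mem_M24_of_check h.1.1
  refine ⟨hok, ⟨hm, MulAction.mem_stabilizer_iff.2 ?_⟩, MulAction.mem_stabilizer_iff.2 ?_⟩
  · have e := rep24.act_spec _ 23 hok (show 23 < rep24.n from (by decide : 23 < 24))
    rw [h.1.2, rep24_pt23] at e
    exact e
  · have e := rep24.act_spec _ 0 hok (show 0 < rep24.n from (by decide : 0 < 24))
    rw [h.2, rep24_pt0] at e
    exact e

/-- The generators. -/
noncomputable def gen (s : ℕ) : Spor.M22 := if hs : s < 6 then ⟨_, (mem_m22 hs).2⟩ else 1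

theorem gen_coded : Coded (w := 5) (k := 6) ι gen codes := by
  intro s hs x
  obtain ⟨hok, -⟩ := mem_m22 hs
  have h1 := rep24.act_spec (codes.getD s 0) x hok (show (x : ℕ) < 24 from x.2)
  rw [rep24_pt x.2, Equiv.Perm.smul_def,
    rep24_pt (show rep24.act (codes.getD s 0) x < 24 from rep24.act_lt _ _ hok x.2)] at h1
  have hg : (gen s : Equiv.Perm GolayPt) = rep24.den (codes.getD s 0) := by simp [gen, dif_pos hs]
  show ((e24.symm.permCongr (gen s : Equiv.Perm GolayPt)) x : ℕ) = _
  rw [Equiv.permCongr_apply, Equiv.symm_symm, hg, h1, Equiv.symm_apply_apply]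
  rfl

theorem hlt : ∀ b ∈ base, b < 24 := fun b hb => by simpa [Nat.blt_eq] using allB_spec blt_ok b hb

theorem gen_generates (x : Spor.M22) : x ∈ Submonoid.closure (gen '' {s | s < 6}) :=
  generates_of_card gen_coded wf_ok below_ok hlt distinct_ok (shape_ok.2.2.trans card_m22.symm) x

/-- The cover, inside the product with the permutations of 20904 points. -/
noncomputable def cover :
    Subgroup (Spor.M22 × Equiv.Perm (Fin 20904)) :=
  Subgroup.closure ((fun s => (gen s, rep24s.den (lifts.getD s 0))) '' {s | s < 6})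

/-- The lifted generators. -/
noncomputable def lift (s : ℕ) : cover :=
  if hs : s < 6 then ⟨(gen s, rep24s.den (lifts.getD s 0)), Subgroup.subset_closure ⟨s, hs, rfl⟩⟩
  else 1

theorem lift_val {s : ℕ} (hs : s < 6) :
    (lift s).1 = (gen s, rep24s.den (lifts.getD s 0)) := by
  simp only [lift, dif_pos hs]

/-- The covering map. -/
noncomputable def proj : cover →* Spor.M22 :=
  (MonoidHom.fst _ _).comp (cover).subtype

theorem commCode_spec : ∀ l : List (ℕ × ℕ), (∀ p ∈ l, p.1 < 6 ∧ p.2 < 6) →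
    rep24s.Ok (commCode l) ∧ rep24s.den (commCode l) = (commProd (lift) l).1.2
  | [], _ => by
    rw [show commCode [] = cId 15 24 871 from rfl, ← rep_one]
    exact ⟨rep24s.ok_one, rep24s.den_one⟩
  | p :: l, h => by
    obtain ⟨ha, hb⟩ := h p (by simp)
    obtain ⟨ih1, ih2⟩ := commCode_spec l fun x hx => h x (by simp [hx])
    obtain ⟨-, oa, ⟨oai, da⟩, -⟩ := lift_spec ha
    obtain ⟨-, ob, ⟨obi, db⟩, -⟩ := lift_spec hb
    have o1 := rep24s.ok_mul _ _ oa ob
    have o2 := rep24s.ok_mul _ _ o1 oai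
    have o3 := rep24s.ok_mul _ _ o2 obi
    have hcc : commCode (p :: l) = rep24s.mul (rep24s.mul (rep24s.mul (rep24s.mul (lifts.getD p.1 0)
        (lifts.getD p.2 0)) (liftInvs.getD p.1 0)) (liftInvs.getD p.2 0)) (commCode l) := by
      simp only [rep_mul]
      rfl
    rw [hcc]
    refine ⟨rep24s.ok_mul _ _ o3 ih1, ?_⟩
    rw [rep24s.den_mul _ _ o3 ih1, rep24s.den_mul _ _ o2 obi, rep24s.den_mul _ _ o1 oai,
      rep24s.den_mul _ _ oa ob, da, db, ih2,
      show commProd (lift) (p :: l) = ⁅lift p.1, lift p.2⁆ * commProd (lift) l from rfl,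
      commutatorElement_def]
    simp only [Subgroup.coe_mul, Subgroup.coe_inv, lift_val ha, lift_val hb, Prod.snd_mul,
      Prod.snd_inv]

/-- The central element. -/
noncomputable def zc : cover := commProd lift centPairs

theorem zc_snd : zc.1.2 = rep24s.den centCode := by
  obtain ⟨-, hp, hc, -⟩ := cent_spec
  rw [zc, ← (commCode_spec _ hp).2, hc]

theorem compat (y : cover) : ∀ q : Fin 24,
    (y.1.2 ⟨24 * (q : ℕ), by omega⟩ : ℕ) = 24 * (ι y.1.1 q : ℕ) := by
  have hy : y.1 ∈ Subgroup.closure ((fun s => (gen s, rep24s.den (lifts.getD s 0))) '' {s | s < 6}) := y.2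
  rw [← Subgroup.mem_toSubmonoid, Subgroup.closure_toSubmonoid_of_finite] at hy
  generalize y.1 = z at hy ⊢
  induction hy using Submonoid.closure_induction with
  | mem t ht =>
    obtain ⟨s, hs, rfl⟩ := ht
    intro q
    obtain ⟨-, ho, -, -, hq⟩ := lift_spec hs
    show (rep24s.den (lifts.getD s 0) _ : ℕ) = 24 * (ι (gen s) q : ℕ)
    rw [act24s ho, gen_coded s hs]
    exact hq q q.2
  | one => exact fun q => by simp
  | mul a b _ _ ha hb =>
    intro q
    show (a.2 (b.2 _) : ℕ) = 24 * (ι (a.1 * b.1) q : ℕ)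
    rw [map_mul, Equiv.Perm.mul_apply, ← ha (ι b.1 q)]
    exact congrArg (fun x => (a.2 x : ℕ)) (Fin.ext (hb q))

theorem snd_injective : Function.Injective (fun y : cover => y.1.2) := by
  have key : ∀ y : cover, y.1.2 = 1 → y = 1 := fun y hy => by
    refine Subtype.ext (Prod.ext (ι_injective ?_) hy)
    rw [Subgroup.coe_one, Prod.fst_one, map_one]
    refine Equiv.ext fun q => Fin.ext ?_
    have h := compat y q
    rw [hy] at h
    simp only [Equiv.Perm.one_apply] at h
    simp only [Equiv.Perm.one_apply]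
    omega
  intro a b hab
  refine inv_mul_eq_one.mp (key (a⁻¹ * b) ?_)
  show (a.1.2)⁻¹ * b.1.2 = 1
  rw [show a.1.2 = b.1.2 from hab, inv_mul_cancel]

theorem zc_ker : zc ∈ proj.ker := by
  rw [MonoidHom.mem_ker]
  refine ι_injective (Equiv.ext fun q => Fin.ext ?_)
  obtain ⟨ho, -, -, -, -, hfix⟩ := cent_spec
  have h := compat zc q
  rw [zc_snd, act24s ho, hfix q q.2] at h
  rw [map_one]
  show (ι zc.1.1 q : ℕ) = q
  omega

theorem zc_center : zc ∈ Subgroup.center cover := by
  rw [Subgroup.mem_center_iff]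
  intro y
  refine snd_injective ?_
  show y.1.2 * zc.1.2 = zc.1.2 * y.1.2
  rw [zc_snd]
  have hle : cover ≤ (Subgroup.centralizer {rep24s.den centCode}).comap (MonoidHom.snd _ _) := by
    rw [cover, Subgroup.closure_le]
    rintro _ ⟨s, hs, rfl⟩
    rw [SetLike.mem_coe, Subgroup.mem_comap, Subgroup.mem_centralizer_iff]
    rintro _ rfl
    obtain ⟨-, ho, -, hcomm, -⟩ := lift_spec hs
    show rep24s.den centCode * rep24s.den (lifts.getD s 0) =
      rep24s.den (lifts.getD s 0) * rep24s.den centCode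
    rw [← rep24s.den_mul _ _ cent_spec.1 ho, ← rep24s.den_mul _ _ ho cent_spec.1, rep_mul, rep_mul, hcomm]
  exact (Subgroup.mem_centralizer_iff.mp (hle y.2) _ rfl).symm

theorem card_cover_le : Nat.card cover ≤ 5322240 := by
  rw [← cover_size, ← rep24s.card_chainGroup coverChain cover_check]
  have hle : cover ≤ (rep24s.chainGroup coverChain).comap (MonoidHom.snd _ _) := by
    rw [cover, Subgroup.closure_le]
    rintro _ ⟨s, hs, rfl⟩
    exact rep24s.den_mem_span (lift_spec hs).1
  refine Nat.card_le_card_of_injective (fun y => ⟨y.1.2, hle y.2⟩) fun a b h => ?_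
  exact snd_injective (congrArg Subtype.val h)

theorem proj_surjective : Function.Surjective proj := by
  intro x
  have hx := gen_generates x
  induction hx using Submonoid.closure_induction with
  | mem t ht =>
    obtain ⟨s, hs, rfl⟩ := ht
    exact ⟨lift s, congrArg Prod.fst (lift_val hs)⟩
  | one => exact ⟨1, map_one _⟩
  | mul a b _ _ ha hb =>
    obtain ⟨a', rfl⟩ := ha
    obtain ⟨b', rfl⟩ := hb
    exact ⟨a' * b', map_mul _ _ _⟩

theorem exists_stem : ∃ (Γ : Type) (_ : Group Γ) (_ : Finite Γ) (σ : Γ →* Spor.M22),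
    Cfsg.IsStemExtension σ ∧ Nonempty (σ.ker ≃* Multiplicative (ZMod 12)) := by
  have hpow : ∀ n : ℕ, (zc ^ n).1.2 = rep24s.den centCode ^ n := fun n => by
    rw [Subgroup.coe_pow, Prod.pow_snd, zc_snd]
  obtain ⟨-, -, -, h12, hfree, -⟩ := cent_spec
  have ho : orderOf zc = 12 := by
    rw [orderOf_eq_iff (by norm_num)]
    refine ⟨snd_injective (show (zc ^ 12).1.2 = _ by rw [hpow, h12]; rfl), fun a ha h0 e => ?_⟩
    have := hfree a ha (by rw [← hpow, e]; rfl)
    omega
  have hker : proj.ker = Subgroup.zpowers zc := by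
    refine (Subgroup.eq_of_le_of_card_ge ((Subgroup.zpowers_le).mpr zc_ker) ?_).symm
    have h1 := Subgroup.card_mul_index proj.ker
    rw [Subgroup.index_ker, MonoidHom.range_eq_top.mpr proj_surjective, Subgroup.card_top, card_m22] at h1
    have h3 := card_cover_le
    rw [Nat.card_zpowers, ho]
    generalize Nat.card proj.ker = c at h1 ⊢
    omega
  refine ⟨cover, inferInstance, inferInstance, proj, ⟨proj_surjective, ?_, ?_⟩, ?_⟩
  · rw [hker, Subgroup.zpowers_le]
    exact zc_center
  · rw [hker, Subgroup.zpowers_le]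
    exact list_prod_mem fun y hy => by
      obtain ⟨p, -, rfl⟩ := List.mem_map.mp hy
      exact Subgroup.commutator_mem_commutator (Subgroup.mem_top _) (Subgroup.mem_top _)
  · haveI : IsCyclic (Subgroup.zpowers zc) := inferInstance
    have e : Multiplicative (ZMod 12) ≃* Subgroup.zpowers zc :=
      mulEquivOfCyclicCardEq (by rw [Nat.card_zpowers, ho]; simp [Nat.card_eq_fintype_card])
    exact ⟨(MulEquiv.subgroupCongr hker).trans e.symm⟩

theorem kernel_bound {Γ : Type} [Group Γ] [Finite Γ] (σ : Γ →* Spor.M22)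
    (hσ : Cfsg.IsStemExtension σ) :
    ∃ π : Multiplicative (ZMod 12) →* σ.ker, Function.Surjective π := by
  have hcard : numForms cert.D = Nat.card Spor.M22 := shape_ok.2.2.trans card_m22.symm
  have hb := isBase_of_card gen_coded wf_ok below_ok hlt distinct_ok hcard
  obtain ⟨u, hu, hle⟩ := exists_generators gen checked
    (tableOK_of_check gen_coded hb wf_ok below_ok fun i hi =>
      allBelow_eq_true.mp table_ok i (shape_ok.1 ▸ hi))
    (faithful_of_distinct gen_coded wf_ok below_ok hlt distinct_ok)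
    gen_generates
    (commProd_of_check gen_coded hb pow_ok below_ok commData_ok comm_ok)
    (by rw [card_m22, shape_ok.2.1]) σ hσ
  have hlen : multi.ords.length = 1 := rfl
  obtain ⟨hu0, hu12⟩ := hu 0 (by omega)
  rw [show multi.ords.getD 0 0 = 12 from rfl] at hu12
  let v : σ.ker := ⟨u 0, hu0⟩
  let f : ZMod 12 →+ Additive σ.ker := ZMod.lift 12
    ⟨zmultiplesHom (Additive σ.ker) (Additive.ofMul v), by
      simp only [zmultiplesHom_apply, natCast_zsmul]
      exact congrArg Additive.ofMul (Subtype.ext hu12)⟩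
  refine ⟨AddMonoidHom.toMultiplicativeLeft f, fun z => ?_⟩
  have hz : (z : Γ) ∈ Subgroup.zpowers (u 0) := by
    refine (?_ : Subgroup.closure _ ≤ Subgroup.zpowers (u 0)) (hle z.2)
    rw [Subgroup.closure_le]
    rintro _ ⟨r, hr, rfl⟩
    obtain rfl : r = 0 := by
      have : r < multi.ords.length := hr
      omega
    exact Subgroup.mem_zpowers _
  obtain ⟨n, hn⟩ := hz
  refine ⟨Multiplicative.ofAdd (n : ZMod 12), ?_⟩
  show Additive.toMul (f (n : ZMod 12)) = z
  rw [ZMod.lift_coe]
  exact Subtype.ext (by rw [← hn]; rfl)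

theorem multiplier : Cfsg.HasCyclicSchurMultiplier Spor.M22 12 :=
  ⟨exists_stem, fun _ _ _ σ hσ => kernel_bound σ hσ⟩

end Cfsg.Agent.SporMult.M22
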