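import Cfsg.Agent.SporMult.M23Check
import Cfsg.Agent.Compute.Mathieu

/-! The Schur multiplier of M23 is trivial. -/

set_option autoImplicit false

namespace Cfsg.Agent.SporMult.M23

open Cfsg Cfsg.Agent.Compute Cfsg.Agent.StemCert

theorem size_ok : numForms cert.D = 10200960 ∧ cert.md = 10200960 := by decide +kernel

theorem multiplier : Cfsg.HasCyclicSchurMultiplier Cfsg.Spor.M23 1 := by
  refine trivial_of_cert checks (fun s hs => ?_) ?_ ?_
  · have h := allBelow_eq_true.mp mem_ok s hs
    rw [memTest, Bool.and_eq_true, Nat.beq_eq] at h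
    obtain ⟨hok, hm⟩ := mem_M24_of_check h.1
    refine ⟨hok, hm, MulAction.mem_stabilizer_iff.2 ?_⟩
    have e := rep24.act_spec _ 23 hok (show 23 < rep24.n from (by decide : 23 < 24))
    rw [h.2, rep24_pt23] at e
    exact e
  · rw [card_m23]; exact size_ok.1
  · rw [card_m23, size_ok.2]

end Cfsg.Agent.SporMult.M23
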