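import Cfsg.Agent.StemCert.Count
import Cfsg.Agent.Compute.GolayPerm

/-!
Trivial Schur multiplier of a group of permutations of the 24 points from a certificate.
-/

set_option autoImplicit false

namespace Cfsg.Agent.SporMult

open Cfsg Cfsg.Agent.Compute Cfsg.Agent.StemCert

/-- The checks on a certificate for a group of permutations of the 24 points. -/
structure Checks (C : Cert) (k : ℕ) (codes base : List ℕ) : Prop where
  checked : C.Checked k
  below : gensBelow k C.D = true
  blt : allB (fun b => Nat.blt b 24) base = true
  distinct : distinctB 5 codes C.D base = true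
  table : ∀ i < C.D.length, C.tableAt 5 codes base i = true
  comm : allBelow k (C.commAt 5 codes base) = true
  ord : C.ord = 1

theorem trivial_of_cert {H : Subgroup (Equiv.Perm GolayPt)} {C : Cert} {k : ℕ} {codes base : List ℕ}
    (h : Checks C k codes base)
    (hmem : ∀ s < k, rep24.Ok (codes.getD s 0) ∧ rep24.den (codes.getD s 0) ∈ H)
    (hcard : numForms C.D = Nat.card H) (hmd : Nat.card H ∣ C.md) :
    Cfsg.HasCyclicSchurMultiplier H 1 := by
  let ι : H →* Equiv.Perm (Fin 24) := (e24.symm.permCongrHom).toMonoidHom.comp H.subtype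
  let g : ℕ → H := fun s => if hs : s < k then ⟨_, (hmem s hs).2⟩ else 1
  have hc : Coded (w := 5) (k := k) ι g codes := by
    intro s hs x
    have h1 := rep24.act_spec (codes.getD s 0) x (hmem s hs).1 (show (x : ℕ) < 24 from x.2)
    rw [rep24_pt x.2, Equiv.Perm.smul_def,
      rep24_pt (show rep24.act (codes.getD s 0) x < 24 from rep24.act_lt _ _ (hmem s hs).1 x.2)] at h1
    have hg : (g s : Equiv.Perm GolayPt) = rep24.den (codes.getD s 0) := by simp [g, dif_pos hs]
    show ((e24.symm.permCongr (g s : Equiv.Perm GolayPt)) x : ℕ) = _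
    rw [Equiv.permCongr_apply, Equiv.symm_symm, hg, h1, Equiv.symm_apply_apply]
    rfl
  have hlt : ∀ b ∈ base, b < 24 := fun b hb => by simpa [Nat.blt_eq] using allB_spec h.blt b hb
  have hbase := isBase_of_card hc h.checked.wf h.below hlt h.distinct hcard
  refine ⟨⟨H, inferInstance, inferInstance, MonoidHom.id H, ⟨Function.surjective_id, ?_, ?_⟩, ?_⟩,
    fun Γ _ _ σ hσ => ?_⟩
  · rw [MonoidHom.ker_eq_bot_iff _ |>.mpr Function.injective_id]; exact bot_le
  · rw [MonoidHom.ker_eq_bot_iff _ |>.mpr Function.injective_id]; exact bot_le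
  · have : Subsingleton (MonoidHom.id H).ker := by
      rw [MonoidHom.ker_eq_bot_iff _ |>.mpr Function.injective_id]; infer_instance
    have : Unique (MonoidHom.id H).ker := uniqueOfSubsingleton 1
    exact ⟨MulEquiv.ofUnique⟩
  · have := kernel_image g h.checked
      (tableOK_of_check hc hbase h.checked.wf h.below h.table)
      (faithful_of_distinct hc h.checked.wf h.below hlt h.distinct)
      (generates_of_card hc h.checked.wf h.below hlt h.distinct hcard)
      (commProd_of_check hc hbase h.checked.pow h.below h.checked.comm h.comm) hmd σ hσ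
    rwa [h.ord] at this

end Cfsg.Agent.SporMult
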