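import Cfsg.Agent.StemCert.Defs

/-! Data of a multiplier certificate. -/

set_option autoImplicit false
set_option maxRecDepth 100000
set_option maxHeartbeats 0
set_option linter.all false

namespace Cfsg.Agent.SporMult.M11

open Cfsg.Agent.StemCert

/-- Transversal of level 0. -/
def words0 : Arr (List ℕ) :=
  (.node [] (.node [4] (.node [3,4] (.node [0,3,4] .nil .nil) .nil) (.node [1,2,4] (.node [0,0,2,4] .nil .nil) .nil)) (.node [2,4] (.node [0,2,4] (.node [2,3,4] .nil .nil) .nil) (.node [3,2,4] (.node [3,0,2,4] .nil .nil) .nil)))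

/-- Table of generator 0 at level 0. -/
def ents0_0 : Arr Ent :=
  (.node ⟨0,[0],[],0,0,0,[]⟩ (.node ⟨1,[0,0,3,0,1,2],[4,4,-1,-16,-20,1,-2,-1,-17,10,14,25,-38,4,2,12,21,-56,12,-9,-16,7,17,7],106,2,5,[0,0,0,0]⟩ (.node ⟨7,[],[],0,0,0,[]⟩ (.node ⟨6,[0,2,3,1,0,2],[3,-36,-3,-16,-18,0,-3,6,2,15,-2,-13,-6,-13,6,1,-40,8,20,-30,7,10,33,4],104,2,0,[8,0,0,0]⟩ .nil .nil) .nil) (.node ⟨3,[3,1,3,1,0,0,2,0],[-1,30,0,29,29,0,2,-2,10,-29,0,-3,31,16,-10,-4,23,31,-21,33,0,-13,-62,-4],100,2,1,[5,0,0,0]⟩ (.node ⟨8,[2,3,1,0,2,0,1],[2,-32,-1,-45,-8,0,-3,4,11,0,-7,-14,12,-9,4,0,-5,-15,38,-17,-11,2,-1],107,2,1,[4,0,0,0]⟩ .nil .nil) .nil)) (.node ⟨4,[],[],0,0,0,[]⟩ (.node ⟨9,[],[],0,0,0,[]⟩ (.node ⟨2,[1,0,3,0,1,2,0,0,0],[-2,-8,0,-14,-20,0,0,2,-5,17,2,-5,-17,-8,5,1,-11,-14,5,-12,-2,8,29,3],91,2,1,[8,0,0,0]⟩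 .nil .nil) .nil) (.node ⟨5,[0,2,3,1,0,2,0],[2,-32,-1,-40,-48,0,-3,4,-13,33,5,2,-47,-23,18,5,-11,-63,29,-41,-6,18,76,8],103,2,1,[6,0,0,0]⟩ (.node ⟨10,[1,0,3,0,1,2,1,0],[7,-111,2,-359,124,8,-10,-7,85,-56,-122,-110,160,-54,13,-36,-7,-8,280,-39,-17,-40,-106,-29],119,2,0,[10,0,0,0]⟩ .nil .nil) .nil)))

/-- Table of generator 1 at level 0. -/
def ents0_1 : Arr Ent :=
  (.node ⟨0,[1],[],0,0,0,[]⟩ (.node ⟨1,[0,2,3,1,0,2,1,0],[1,1,0,-2,1,0,0,-1,0,-2,0,-2,0,0,0,0,3,-2,2,0,-1,0,-2],65,2,0,[0,0,0,0]⟩ (.node ⟨4,[0,0,3,0,1,2,1,0],[-1,14,1,3,7,0,1,-2,-4,-2,1,6,-2,3,-2,0,-2,4,-4,7,1,-1,-5,-1],94,2,6,[0,0,0,0]⟩ (.node ⟨2,[0,0,3,0,1,2,1,0],[1,-33,0,-27,-21,0,-2,2,-6,24,-4,1,-18,-17,9,1,-37,-12,23,-33,3,11,55,1],97,2,0,[2,0,0,0]⟩ .nil .nil) .nil) (.node ⟨9,[],[-4,48,4,33,37,0,4,-8,-4,-24,2,26,17,21,-12,-2,33,20,-32,44,-2,-15,-58,-5],108,2,1,[7,0,0,0]⟩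 (.node ⟨7,[3,1,3,1,0,0,2,0],[-1,30,0,29,29,0,2,-2,10,-29,0,-3,31,16,-10,-4,23,31,-21,33,0,-13,-62,-4],99,2,1,[2,0,0,0]⟩ .nil .nil) .nil)) (.node ⟨5,[],[],0,0,0,[]⟩ (.node ⟨6,[3,1,3,1,0,0,2,1,0],[0,-9,0,-4,-5,0,0,0,-2,4,0,5,-4,-1,1,1,-9,-1,4,-7,1,2,11],84,2,0,[6,7,4,0]⟩ (.node ⟨3,[0,0,3,0,1,2,0,1],[-1,15,0,39,15,0,2,-2,4,-9,-2,-5,15,4,-4,-6,-6,37,-29,14,15,-6,-13,-3],102,2,6,[7,0,0,0]⟩ .nil .nil) .nil) (.node ⟨8,[3,1,3,1,0,0,2,0,1],[2,17,0,3,15,0,0,-2,7,-18,0,-7,16,8,-5,-2,23,1,-2,17,-5,-8,-36,-2],89,2,2,[0,0,0,0]⟩ (.node ⟨10,[3,0,1,2,0,0,0],[3,25,-2,110,-32,-3,1,3,-23,13,37,33,-43,20,-8,14,-6,5,-77,5,3,10,35,6],118,2,0,[9,0,0,0]⟩ .nil .nil) .nil)))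

/-- Table of generator 2 at level 0. -/
def ents0_2 : Arr Ent :=
  (.node ⟨0,[2],[],0,0,0,[]⟩ (.node ⟨2,[],[],0,0,0,[]⟩ (.node ⟨8,[],[],0,0,0,[]⟩ (.node ⟨6,[3,1,3,1,0,0,2,0,0],[-1,-22,0,-41,-34,1,-1,1,-12,27,2,7,-34,-15,11,5,-8,-44,24,-25,-9,15,46,6],98,2,3,[6,0,0,0]⟩ .nil .nil) .nil) (.node ⟨4,[3,0,1,2,0],[-6,20,1,22,0,0,3,0,4,-3,-4,-17,7,-7,7,-11,12,20,-28,17,13,1,-17,3],109,2,0,[7,0,0,0]⟩ (.node ⟨9,[3,1,3,1,0,0,2],[8,8,-5,64,-44,-2,-1,4,-28,10,36,45,-56,10,6,20,-10,-32,-34,-14,8,9,42,16],113,2,5,[7,0,0,0]⟩ .nil .nil) .nil)) (.node ⟨1,[],[0,0,0,1],28,2,3,[1,0,0,0]⟩ (.node ⟨5,[1,0,3,0,1,2,1],[-3,-22,-1,-13,-6,1,0,3,13,12,-14,-40,14,-19,7,-14,-25,22,6,-16,10,4,28,-4],110,2,5,[8,0,0,0]⟩ (.node ⟨3,[],[0,0,0,1],29,2,3,[3,0,0,0]⟩ .nil .nil) .nil)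 (.node ⟨7,[0,3,0,1,2,1,0],[1,25,0,40,28,-1,1,-1,10,-28,2,-4,29,16,-10,-4,16,33,-24,27,4,-14,-50,-4],95,2,6,[1,0,0,0]⟩ (.node ⟨10,[1,0,3,0,1,2,0],[0,10,-3,70,-77,-4,-1,12,-27,32,39,15,-72,-7,19,10,3,-38,-57,-13,5,30,45,26],115,2,2,[8,0,0,0]⟩ .nil .nil) .nil)))

/-- Table of generator 3 at level 0. -/
def ents0_3 : Arr Ent :=
  (.node ⟨0,[3],[],0,0,0,[]⟩ (.node ⟨3,[],[],0,0,0,[]⟩ (.node ⟨1,[],[0,0,0,0,1],31,2,4,[1,0,0,0]⟩ (.node ⟨8,[3,1,3,1,0,0,2,0,0],[4,-34,-1,-31,-28,0,-3,2,-13,24,5,19,-30,-10,7,9,-30,-33,29,-35,-7,12,53,4],105,2,4,[7,0,0,0]⟩ .nil .nil) .nil) (.node ⟨5,[0,2,3,1,0,2,1],[10,-22,-1,-52,15,0,-5,-1,1,-11,-2,16,6,8,-7,12,3,-36,54,-13,-19,-7,-9,-2],111,2,0,[5,0,0,0]⟩ (.node ⟨9,[0,0,3,0,1,2,1,0,0],[-6,-52,4,-167,92,4,-2,-3,70,-33,-84,-108,133,-33,-2,-41,-29,81,118,0,6,-24,-80,-29],117,2,2,[9,0,0,0]⟩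 .nil .nil) .nil)) (.node ⟨6,[],[],0,0,0,[]⟩ (.node ⟨10,[],[],0,0,0,[]⟩ (.node ⟨7,[0,3,0,1,2,1,0],[-4,30,1,33,37,0,3,-2,17,-29,-9,-21,43,9,-8,-12,16,51,-27,35,11,-14,-61,-6],101,2,2,[2,0,0,0]⟩ .nil .nil) .nil) (.node ⟨2,[],[0,0,0,0,1],32,2,4,[2,0,0,0]⟩ (.node ⟨4,[],[0,0,0,0,1],33,2,4,[4,0,0,0]⟩ .nil .nil) .nil)))

/-- Table of generator 4 at level 0. -/
def ents0_4 : Arr Ent :=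
  (.node ⟨1,[],[],0,0,0,[]⟩ (.node ⟨0,[],[0,0,0,0,0,0,0,1],34,2,7,[0,0,0,0]⟩ (.node ⟨7,[1,3,0,0,2],[2,15,0,6,11,-1,0,0,3,-15,3,2,8,9,-4,1,19,-4,-2,13,-5,-6,-27,-1],96,2,7,[3,0,0,0]⟩ (.node ⟨3,[0,2,3,1,0,0,2,0,0,0],[-2,-19,0,-15,-17,1,0,1,-7,19,-3,5,-17,-13,8,0,-26,-5,9,-20,6,9,40,2],92,2,5,[1,0,0,0]⟩ .nil .nil) .nil) (.node ⟨5,[1,0,3,0,1],[-5,43,1,80,-31,-1,5,-2,-28,10,33,44,-48,18,-4,14,29,-14,-68,21,-10,10,8,5],114,2,6,[4,0,0,0]⟩ (.node ⟨10,[3,2,0,0,0],[0,-11,1,-19,17,2,0,-4,6,-4,-13,2,17,-2,-4,-2,-21,14,18,-6,6,-7,9,-9],112,2,5,[4,0,0,0]⟩ .nil .nil) .nil)) (.node ⟨2,[0,3,1,0,0,2,1],[1,13,0,-2,-3,1,0,-2,-6,-3,8,8,-13,8,-3,5,24,-25,-1,7,-9,-1,-7,3],93,2,5,[2,0,0,0]⟩ (.node ⟨6,[3,1,0,0,2,1],[0,-6,-1,4,-1,0,0,2,1,0,0,0,1,0,0,0,-4,5,0,-4,0,1,3,-1],90,2,7,[4,0,0,0]⟩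 (.node ⟨8,[1,3,1,0,0],[-2,-16,1,-9,-12,0,0,1,-3,15,-4,2,-8,-10,5,-1,-28,6,5,-15,7,7,30,-1],87,2,2,[1,4,1,2]⟩ .nil .nil) .nil) (.node ⟨4,[0,3,1,0,0,2,1,0],[0,3,1,-13,-9,0,0,-1,-6,7,2,5,-14,-3,3,2,1,-20,6,-4,-3,3,15,1],88,2,2,[6,7,8,6]⟩ (.node ⟨9,[0,2,3],[0,11,-1,18,-18,-2,0,5,-6,4,13,-2,-17,2,4,2,21,-14,-18,6,-7,7,-9,9],116,2,7,[9,0,0,0]⟩ .nil .nil) .nil)))

/-- Level 0. -/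
def lv0 : Lv :=
  ⟨11, [0,1,2,3,4], words0, [ents0_0,ents0_1,ents0_2,ents0_3,ents0_4]⟩

/-- Transversal of level 1. -/
def words1 : Arr (List ℕ) :=
  (.node [] (.node [3] (.node [1,3] (.node [3,1,3] .nil .nil) .nil) (.node [0,0,3] (.node [2,3,1,3] .nil .nil) .nil)) (.node [0,3] (.node [2,3] (.node [0,2,3] .nil .nil) .nil) (.node [1,0,3] .nil .nil)))

/-- Table of generator 0 at level 1. -/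
def ents1_0 : Arr Ent :=
  (.node ⟨0,[0],[],0,0,0,[]⟩ (.node ⟨2,[],[],0,0,0,[]⟩ (.node ⟨4,[0,0,2,1,0,0],[0,2,0,2,1,0,0,0,0,-1,1,0,0,1,-1,0,3,0,-2,2,-2,0,-3],67,2,10,[1,0,0]⟩ (.node ⟨1,[0,2,0,1],[0,0,0,-3,-1,0,0,0,1,0,0,-2,0,0,0,0,2,-3,1,0,-1],61,2,8,[1,0,0]⟩ .nil .nil) .nil) (.node ⟨7,[1,0,2,0,0,0],[0,0,0,2,1,0,0,0,-1,0,0,2,1,0,0,0,-4,4,-1,0,1,0,-1],68,2,12,[7,0,0]⟩ (.node ⟨9,[0],[0,-4,0,-2,1,0,0,0,0,2,-2,0,0,-1,0,0,-5,2,2,-3,2,0,7,-1],86,2,9,[4,0,0]⟩ .nil .nil) .nil)) (.node ⟨5,[],[],0,0,0,[]⟩ (.node ⟨8,[],[],0,0,0,[]⟩ (.node ⟨6,[1,2,0,0],[0,-3,0,-5,-5,0,0,0,-1,4,1,-2,-4,0,0,1,1,-7,2,-3,-3,1,8],77,2,11,[8,0,0]⟩ .nil .nil) .nil) (.node ⟨3,[],[0,2,0,5,4,0,0,0,1,-3,-1,1,5,0,0,-1,-2,8,-3,3,3,-1,-8],73,2,8,[3,0,0]⟩ .nil .nil)))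

/-- Table of generator 1 at level 1. -/
def ents1_1 : Arr Ent :=
  (.node ⟨0,[1],[],0,0,0,[]⟩ (.node ⟨3,[],[],0,0,0,[]⟩ (.node ⟨5,[],[0,0,0,0,0,0,0,0,0,0,0,1,-1,0,0,0,2,-2,0,0,-1,0,1],72,2,11,[5,0,0]⟩ (.node ⟨4,[0,2,0],[0,6,0,6,4,0,0,0,2,-4,0,-3,4,1,-1,-1,4,5,-5,5,1,-2,-8],80,2,1,[0,2,8,6]⟩ .nil .nil) .nil) (.node ⟨8,[0,0,2,1,0,0],[0,1,0,-1,1,0,0,0,0,-1,0,0,0,0,0,0,-1,1,1,0,0,0,-1],66,2,1,[0,1,7,1]⟩ (.node ⟨9,[0,1],[0,-1,0,-2,-1,0,0,0,0,1,0,0,-1,0,0,0,-1,-1,1,-1,0,0,2],69,2,9,[0,0,0]⟩ .nil .nil) .nil)) (.node ⟨6,[],[],0,0,0,[]⟩ (.node ⟨2,[1,2,0,0],[0,-5,0,-8,-5,0,0,0,-1,4,0,1,-5,-1,1,1,-3,-7,5,-5,-1,1,11],76,2,11,[6,0,0]⟩ (.node ⟨1,[1,2,0,0],[0,0,0,0,-1,0,0,0,0,1,0,0,0,0,0,0,-1,0,-1,0,0,0,1],63,2,9,[1,0,0]⟩ .nil .nil) .nil) (.node ⟨7,[1,0,2,0,0,0],[0,0,0,2,1,0,0,0,-1,0,0,4,0,0,0,0,-4,4,-1,0,1,0,-1],64,2,11,[7,0,0]⟩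 .nil .nil)))

/-- Table of generator 2 at level 1. -/
def ents1_2 : Arr Ent :=
  (.node ⟨0,[2],[],0,0,0,[]⟩ (.node ⟨4,[],[],0,0,0,[]⟩ (.node ⟨6,[1,0,0,2,1,0],[0,4,0,-2,-8,0,0,0,-5,5,4,3,-13,1,1,3,12,-19,-2,0,-5,2,9,2],78,2,9,[5,0,0]⟩ (.node ⟨9,[],[],0,0,0,[]⟩ .nil .nil) .nil) (.node ⟨8,[1,0,0,2,1,0],[0,5,0,7,1,0,0,0,-2,-2,2,3,-2,2,0,1,5,-1,-5,3,0,0,-4,1],79,2,13,[5,0,0]⟩ (.node ⟨7,[],[0,0,0,1],27,2,3,[0,9,3,7]⟩ .nil .nil) .nil)) (.node ⟨2,[0,0,0,2,0],[0,-5,0,-8,-4,0,0,0,3,1,-2,-5,2,-2,1,0,0,-3,4,-2,-1,1,1],85,2,8,[2,0,0]⟩ (.node ⟨1,[],[0,0,0,0,0,0,0,0,0,0,0,0,0,1],35,2,13,[1,0,0]⟩ (.node ⟨5,[0,1,2,1],[0,-5,0,-8,-1,0,0,0,2,2,-2,-3,2,-1,0,-1,-5,-1,5,-3,0,0,4,-1],74,2,8,[4,0,0]⟩ .nil .nil) .nil) (.node ⟨3,[0,1,2,1],[0,2,0,5,9,0,0,0,5,-7,-3,-4,13,2,-2,-2,-1,14,-3,6,4,-4,-16,-1],82,2,8,[5,0,0]⟩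 .nil .nil)))

/-- Table of generator 3 at level 1. -/
def ents1_3 : Arr Ent :=
  (.node ⟨1,[],[],0,0,0,[]⟩ (.node ⟨0,[],[0,0,0,0,1],30,2,4,[0,0,0,0]⟩ (.node ⟨7,[],[],0,0,0,[]⟩ (.node ⟨3,[],[0,0,0,0,0,0,0,0,0,0,0,0,0,0,0,1],36,2,15,[3,0,0]⟩ .nil .nil) .nil) (.node ⟨6,[0,1],[0,1,0,0,-1,0,0,0,0,0,1,-2,-1,0,0,0,2,-3,0,0,-1,0,1],70,2,10,[0,0,0]⟩ (.node ⟨8,[0,1,2],[0,6,0,7,4,0,0,0,3,-5,0,-6,5,1,-1,-1,7,4,-5,5,0,-1,-11],81,2,8,[0,0,0]⟩ .nil .nil) .nil)) (.node ⟨2,[0,0,2,0,0],[0,0,0,1,-2,0,0,0,-3,3,2,4,-6,0,0,1,-4,-1,0,-3,-1,1,7],75,2,10,[3,0,0]⟩ (.node ⟨4,[2],[0,0,0,-1,-1,0,0,0,0,0,0,0,0,-1,1],41,2,14,[0,0,0]⟩ (.node ⟨9,[2,1,0],[0,-3,0,-6,2,0,0,0,0,2,-2,1,2,-2,0,-1,-9,3,5,-3,1,0,2,-1],83,2,9,[3,0,0]⟩ .nil .nil) .nil) (.node ⟨5,[1,0],[0,2,0,0,-1,0,0,0,0,0,1,0,-2,0,0,0,0,-3,0,0,0,0,2],71,2,10,[6,0,0]⟩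 .nil .nil)))

/-- Level 1. -/
def lv1 : Lv :=
  ⟨10, [0,1,2,3], words1, [ents1_0,ents1_1,ents1_2,ents1_3,.nil]⟩

/-- Transversal of level 2. -/
def words2 : Arr (List ℕ) :=
  (.node [] (.node [2] (.node [1,2] (.node [0,0,0,2] .nil .nil) .nil) (.node [1,0,2] .nil .nil)) (.node [0,2] (.node [0,0,2] (.node [1,0,0,2] .nil .nil) .nil) (.node [0,1,2] .nil .nil)))

/-- Table of generator 0 at level 2. -/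
def ents2_0 : Arr Ent :=
  (.node ⟨0,[0],[],0,0,0,[]⟩ (.node ⟨2,[],[],0,0,0,[]⟩ (.node ⟨6,[],[],0,0,0,[]⟩ (.node ⟨1,[],[0,0,0,0,0,0,0,0,0,0,0,-1,0,0,0,0,2,-1],55,2,16,[2,0]⟩ .nil .nil) .nil) (.node ⟨3,[],[0,0,0,0,0,0,0,0,0,0,0,-1,0,0,0,0,1],49,2,16,[5,0]⟩ .nil .nil)) (.node ⟨4,[],[],0,0,0,[]⟩ (.node ⟨7,[],[],0,0,0,[]⟩ (.node ⟨5,[],[0,0,0,0,0,0,0,0,0,0,0,0,0,0,0,0,1,-1],56,2,16,[8,0]⟩ .nil .nil) .nil) (.node ⟨8,[],[0,0,0,0,0,0,0,0,0,0,0,1,0,0,0,0,0,-1],42,2,11,[0,3,4]⟩ .nil .nil)))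

/-- Table of generator 1 at level 2. -/
def ents2_1 : Arr Ent :=
  (.node ⟨0,[1],[],0,0,0,[]⟩ (.node ⟨3,[],[],0,0,0,[]⟩ (.node ⟨4,[],[0,0,0,0,0,0,0,0,0,0,0,2,0,0,0,0,-2,1],57,2,16,[4,0]⟩ (.node ⟨6,[],[0,0,0,0,0,0,0,0,0,0,0,-1,0,0,0,0,1],48,2,16,[1,0]⟩ .nil .nil) .nil) (.node ⟨7,[],[0,0,0,0,0,0,0,0,0,0,0,1,0,0,0,0,-2,2],58,2,17,[7,0]⟩ .nil .nil)) (.node ⟨5,[],[],0,0,0,[]⟩ (.node ⟨8,[],[],0,0,0,[]⟩ (.node ⟨1,[],[0,0,0,0,0,0,0,0,0,0,0,0,0,0,0,0,0,1],37,2,17,[1,0]⟩ .nil .nil) .nil) (.node ⟨2,[],[0,0,0,0,0,0,0,0,0,0,0,1,0,0,0,0,-1,1],53,2,17,[2,0]⟩ .nil .nil)))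

/-- Table of generator 2 at level 2. -/
def ents2_2 : Arr Ent :=
  (.node ⟨1,[],[],0,0,0,[]⟩ (.node ⟨0,[],[0,0,0,1],26,2,3,[0,0,0,0]⟩ (.node ⟨2,[0,1],[0,0,0,-1,0,0,0,0,0,0,0,1,0,0,0,0,-2,1,1,0,0,0,-1],59,2,18,[3,0]⟩ (.node ⟨6,[1,0,0],[0,-1,0,-1,0,0,0,0,0,0,0,-1,0,0,0,0,0,0,1],50,2,18,[0,0]⟩ .nil .nil) .nil) (.node ⟨8,[0],[0,0,0,-1,0,0,0,0,0,0,0,0,0,0,0,0,0,-1,1,0,-1],44,2,18,[1,0]⟩ .nil .nil)) (.node ⟨3,[1,0],[0,1,0,2,0,0,0,0,0,0,0,-2,0,0,0,0,0,1,-1,0,1],62,2,18,[2,0]⟩ (.node ⟨4,[0,0],[0,-2,0,-2,0,0,0,0,0,0,0,1,0,0,0,0,-4,1,3,-2,0,0,1],60,2,18,[6,0]⟩ (.node ⟨5,[0,0,0],[0,0,0,2,0,0,0,0,0,0,0,0,0,0,0,0,0,1,-1],52,2,3,[0,0,8,0]⟩ .nil .nil) .nil) (.node ⟨7,[1],[0,1,0,1,0,0,0,0,0,0,0,1,0,0,0,0,0,0,-1,1,0,0,-1],54,2,19,[6,0]⟩ .nil .nil)))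

/-- Level 2. -/
def lv2 : Lv :=
  ⟨9, [0,1,2], words2, [ents2_0,ents2_1,ents2_2,.nil,.nil]⟩

/-- Transversal of level 3. -/
def words3 : Arr (List ℕ) :=
  (.node [] (.node [0] (.node [0,0] (.node [1,0,0] .nil .nil) .nil) (.node [0,1] .nil .nil)) (.node [1] (.node [1,0] .nil .nil) (.node [0,0,0] .nil .nil)))

/-- Table of generator 0 at level 3. -/
def ents3_0 : Arr Ent :=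
  (.node ⟨1,[],[],0,0,0,[]⟩ (.node ⟨3,[],[],0,0,0,[]⟩ (.node ⟨6,[],[],0,0,0,[]⟩ (.node ⟨4,[],[0,0,0,0,0,0,0,0,0,0,0,0,0,0,0,0,1,-1],51,2,16,[0,6]⟩ .nil .nil) .nil) (.node ⟨7,[],[0,-1,0,0,0,0,0,0,0,0,0,0,0,0,0,0,0,0,0,0,0,0,1],39,2,22,[2]⟩ .nil .nil)) (.node ⟨5,[],[],0,0,0,[]⟩ (.node ⟨2,[],[0,0,0,0,0,0,0,0,0,0,0,0,0,0,0,0,1,0,0,0,0,0,-1],47,2,16,[0,4]⟩ .nil .nil) (.node ⟨0,[],[0,0,0,0,0,0,0,0,0,0,0,0,0,0,0,0,0,0,0,0,1],38,2,20,[0]⟩ .nil .nil)))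

/-- Table of generator 1 at level 3. -/
def ents3_1 : Arr Ent :=
  (.node ⟨2,[],[],0,0,0,[]⟩ (.node ⟨4,[],[],0,0,0,[]⟩ (.node ⟨7,[],[],0,0,0,[]⟩ (.node ⟨0,[],[0,1],25,2,1,[0,0,0,0]⟩ .nil .nil) .nil) (.node ⟨1,[],[0,0,0,0,0,0,0,0,0,0,0,0,0,0,0,0,0,0,0,0,-1,1],45,2,21,[1]⟩ .nil .nil)) (.node ⟨3,[],[0,-1,0,0,0,0,0,0,0,0,0,0,0,0,0,0,0,0,0,0,0,0,0,1],40,2,23,[0]⟩ (.node ⟨6,[],[0,0,0,0,0,0,0,0,0,0,0,0,0,0,0,0,0,1,0,0,-1],43,2,17,[0,6]⟩ .nil .nil) (.node ⟨5,[],[0,0,0,0,0,0,0,0,0,0,0,0,0,0,0,0,1,0,0,0,0,0,-1],46,2,16,[0,0]⟩ .nil .nil)))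

/-- Level 3. -/
def lv3 : Lv :=
  ⟨8, [0,1], words3, [ents3_0,ents3_1,.nil,.nil,.nil]⟩

/-- The base. -/
def base : List ℕ := [1,2,3,4]

/-- The generators. -/
def codes : List ℕ := [0x89df3ac2eda150655992591c918820,0x2ccea5b1c9b448d7d506a42f218820,0x5daae7b0e39d132ba9a8890a680820,0xbd9e5998e4ab84352d288ca9063420,0x3d2369cab07b8862a922bb16d0a060]

/-- The certificate. -/
def cert : Cert where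
  D := [lv0,lv1,lv2,lv3]
  rels := [(0, [1,0,2,1,4,1,4,2,3]),
    (0, [1,1,0,0]),
    (0, [1,4,3,2,4,1,3,2,4,2,3]),
    (0, [2,2]),
    (0, [3,3]),
    (0, [3,4,0,2,1,3,2,4,2,3,2,4]),
    (0, [4,1,2,3,4,1,3,4,2,3,2]),
    (0, [4,4]),
    (1, [0,3,1,3,2,1,1,1,2,3]),
    (1, [1,0,2,3,0,2,1,2,0,0,0,3]),
    (1, [1,0,3,0,1,3,0,0,0,0,0,0,3]),
    (1, [1,1,0,0]),
    (1, [1,1,0,0,0,0,0,0]),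
    (1, [2,2]),
    (1, [2,3,2,3,2,3]),
    (1, [3,3]),
    (2, [1,0,1,0,0,0]),
    (2, [1,1,0,0]),
    (2, [1,2,1,0,2,0,0,0,2]),
    (2, [2,2]),
    (3, [0,0,0,0]),
    (3, [1,0,1,0,0,0]),
    (3, [1,1,0,0]),
    (3, [1,1,1,1])]
  seeds := []
  comms := [[(3, 0),(1, 3),(0, 1),(0, 3)],
    [(3, 1),(4, 0),(1, 3)],
    [(2, 1),(2, 0),(0, 1)],
    [(0, 3),(4, 1),(0, 4)],
    [(0, 1),(2, 4),(1, 3),(0, 1)]]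
  pows := [(4, 20),(4, 23),(2, 19),(2, 15),(2, 7)]
  rows := [(0, 8, [0,4,4]),
    (0, 11, [0,0,0]),
    (0, 13, [0,0,0]),
    (0, 13, [5,1,6]),
    (0, 15, [0,0,0]),
    (0, 18, [2,2]),
    (0, 18, [2,6]),
    (0, 19, [0,0]),
    (0, 7, [6,0,0,0]),
    (0, 12, [0,0,0]),
    (0, 10, [6,1,5]),
    (0, 12, [0,8,7]),
    (0, 15, [4,0,0]),
    (0, 9, [0,6,3]),
    (0, 4, [0,5,0,6]),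
    (1, 2, [0,0,0,0]),
    (0, 12, [6,7,1]),
    (0, 10, [7,0,0]),
    (0, 8, [9,8,6]),
    (0, 11, [9,0,0]),
    (1, 0, [0,0,0,0]),
    (0, 0, [1,7,6,3]),
    (0, 1, [9,0,0,0]),
    (0, 6, [8,0,0,0]),
    (0, 2, [3,0,0,0]),
    (0, 2, [4,0,0,0]),
    (0, 3, [5,0,0,0]),
    (1, 1, [0,0,0,0]),
    (1, 3, [3,0,0,0]),
    (1, 4, [0,0,0,0])]
  piv := 0
  ord := 1
  combos := [(0, [0,-2534,-10,2452,2875,3006,3385,3417,-1409,-14,0,3488,2023,1525,0,-2,-996,452,-826,-3134,-1,853,-807,-2658,-1986,-117,-2826,-3,-1,-2]),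
    (0, [0,1314,-421,-3117,2550,-610,-1897,-1790,-485,3431,0,-1021,3413,-1242,0,0,2664,3509,337,3623,-2,-1357,56,-3939,-819,1253,2466,-2]),
    (0, [0,1991,-2574,-1098,-972,3343,-460,-25,1551,-2003,0,-2423,-2879,937,0,-3,923,-984,3776,-3776,0,-3118,2778,-2295,-196,-1558,1488,-2,-3,-3]),
    (0, [0,2705,-3628,1848,518,-2489,898,3030,2496,-546,0,-2746,-2791,3668,0,-2,1501,-2152,-3200,-760,0,2217,3115,3907,-2482,-53]),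
    (0, [0,313,-2716,2806,1977,2515,2678,-616,450,2606,0,3240,354,-188,0,0,-1535,352,3594,366,0,-1123,1141,-167,2194,2167,-3254,0,-2]),
    (0, [0,652,-2482,594,-588,872,-3044,2044,729,-1684,0,-3250,-150,909,0,-4,-676,2679,-1376,-2584,-1,-113,-3339,-345,443,-883,-1062,-1,-3,-3]),
    (0, [0,200,788,-3079,2528,1453,3318,1015,-3327,-826,0,-3121,-1311,-2143,0,-3,1268,2615,-2922,2922,0,-1790,3617,-1329,-3932,-1250,172,-2,-3,-3]),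
    (0, [0,959,-2717,3763,-1279,853,3599,1313,301,1497,0,-1608,1072,-1498,0,0,-3699,801,2386,-2386,0,2968,2208,2091,3753,308,-3556,0,0,-2]),
    (0, [0,3475,-747,-3144,-920,431,1331,3372,-3072,835,0,-1986,871,-1168,0,-2,699,-2543,1899,-1899,-1,-2942,1121,2653,644,2678,51,-4,-3]),
    (0, [0,758,-1564,-3588,344,1904,-3301,866,-2106,3202,0,-3764,-2764,-965,0,-3,-3818,-702,176,3784,-5,2053,-2308,-483,3077,3083,-788,-2,-2]),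
    (0, [0,-2289,920,3677,769,2930,890,-3255,-3551,313,0,-15,226,3542,0,0,2080,-646,2617,1343,-8,-2407,-2905,-2130,-1725,623,-2415,-2,-3]),
    (0, [0,1313,-421,-3117,2550,-610,-1897,-1790,-485,3431,0,-1021,3413,-1242,0,0,2664,3509,337,3623,-2,-1357,56,-3939,-819,1253,2466,-2]),
    (0, [0,1657,-3795,-487,910,3297,2681,159,1953,3917,0,1582,-2084,-495,0,0,1727,-3549,2823,-2823,-6,3392,2431,-3940,-1613,-2708,2466,-2]),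
    (0, [0,2705,-3629,1848,518,-2489,898,3030,2496,-546,0,-2746,-2791,3668,0,-2,1501,-2152,-3200,-760,0,2217,3115,3907,-2482,-53]),
    (0, [0,-3393,-1597,-939,-218,-3921,-2556,-339,-3501,3090,0,741,-3655,-2700,0,-3,3909,-2700,591,3369,0,-2319,-1536,-2310,-432,-789,3039,0,-3]),
    (0, [0,313,-2716,2806,1976,2515,2678,-616,450,2606,0,3240,354,-188,0,0,-1535,352,3594,366,0,-1123,1141,-167,2194,2167,-3254,0,-2]),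
    (0, [0,2010,778,-3220,-721,3253,-778,-1888,-3529,-3589,0,-3682,-3636,1564,0,0,-3179,-2696,-2620,-1340,-4,-3739,846,19,-2407,-2709,2466,-2]),
    (0, [0,1313,-421,-3118,2550,-610,-1897,-1790,-485,3431,0,-1021,3413,-1242,0,0,2664,3509,337,3623,-2,-1357,56,-3939,-819,1253,2466,-2]),
    (0, [0,-3207,-2850,1266,-203,-3195,119,-2816,-1032,3785,0,1492,-2467,-1368,0,-3,2282,3072,2100,-2100,-4,2438,1,-34,3031,1198,2466,-2]),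
    (0, [0,2705,-3628,1848,518,-2489,898,3029,2496,-546,0,-2746,-2791,3668,0,-2,1501,-2152,-3200,-760,0,2217,3115,3907,-2482,-53]),
    (0, [0,343,-3374,2630,-1640,3907,-3342,1949,2438,487,0,2603,2423,747,0,0,-937,862,2486,1474,-4,-3171,2375,-1,-794,3959]),
    (0, [0,2010,778,-3220,-721,3254,-778,-1888,-3529,-3589,0,-3682,-3636,1564,0,0,-3179,-2696,-2620,-1340,-4,-3739,846,19,-2407,-2709,2466,-2]),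
    (0, [0,1314,-421,-3117,2550,-610,-1896,-1790,-485,3431,0,-1021,3413,-1242,0,0,2664,3509,337,3623,-2,-1357,56,-3939,-819,1253,2466,-2]),
    (0, [0,2285,2532,-944,-1180,2793,-452,2391,-3409,-1545,0,3275,-3517,-3231,0,0,-1655,-1764,-1812,-2148,0,457,-2263,43,-844,-1453,-2988,-4])]
  ordCombo := [0,-2534,-10,2452,2875,3006,3385,3417,-1409,-14,0,3488,2023,1525,0,-2,-996,452,-826,-3134,-1,853,-807,-2658,-1986,-117,-2826,-3,-1,-2]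
  md := 7920

end Cfsg.Agent.SporMult.M11
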