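import Cfsg.Agent.SporMult.Base
import Cfsg.Agent.SporMult.M11Data
import Cfsg.Agent.Compute.M24Base

/-! Checks of the multiplier certificate of M11. -/

set_option autoImplicit false
set_option maxHeartbeats 0

namespace Cfsg.Agent.SporMult.M11

open Cfsg Cfsg.Agent.Compute Cfsg.Agent.StemCert

/-- Membership test. -/
noncomputable def memTest (c : ℕ) : Bool := inM24B c && Nat.beq (imgMask c dodecadMask) dodecadMask && Nat.beq (rep24.act c 0) 0

theorem mem_ok : allBelow 5 (fun s => memTest (codes.getD s 0)) = true := by decide +kernel
theorem wf_ok : wfB cert.D = true := by decide +kernel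
theorem top_ok : cert.topOK 5 = true := by decide +kernel
theorem rel_ok : allBelow cert.nRel cert.relOK = true := by decide +kernel
theorem pow_ok : allBelow 5 cert.powOK = true := by decide +kernel
theorem commData_ok : allBelow 5 cert.commOK = true := by decide +kernel
theorem lv0_ok : cert.lvOK 0 = true := by decide +kernel
theorem lv1_ok : cert.lvOK 1 = true := by decide +kernel
theorem lv2_ok : cert.lvOK 2 = true := by decide +kernel
theorem lv3_ok : cert.lvOK 3 = true := by decide +kernel
theorem row_ok : allB cert.rowOK cert.rows = true := by decide +kernel
theorem basis_ok : allBelow cert.dim cert.basisOK = true := by decide +kernel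
theorem order_ok : cert.ordOK = true := by decide +kernel
theorem below_ok : gensBelow 5 cert.D = true := by decide +kernel
theorem blt_ok : allB (fun b => Nat.blt b 24) base = true := by decide +kernel
theorem distinct_ok : distinctB 5 codes cert.D base = true := by decide +kernel
theorem table_ok : allBelow 4 (cert.tableAt 5 codes base) = true := by decide +kernel
theorem comm_ok : allBelow 5 (cert.commAt 5 codes base) = true := by decide +kernel
theorem shape_ok : cert.D.length = 4 ∧ cert.ord = 1 ∧ 0 < cert.ord := by decide +kernel

theorem checks : Checks cert 5 codes base where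
  checked :=
    { wf := wf_ok, top := top_ok, rel := rel_ok, pow := pow_ok, comm := commData_ok
      lv := fun i hi => by
        rw [shape_ok.1] at hi
        interval_cases i
        exacts [lv0_ok, lv1_ok, lv2_ok, lv3_ok]
      row := row_ok, basis := basis_ok, order := order_ok, piv_lt := shape_ok.2.2 }
  below := below_ok
  blt := blt_ok
  distinct := distinct_ok
  table := fun i hi => allBelow_eq_true.mp table_ok i (shape_ok.1 ▸ hi)
  comm := comm_ok
  ord := shape_ok.2.1

end Cfsg.Agent.SporMult.M11
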