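import Cfsg.Agent.SporMult.Base
import Cfsg.Agent.SporMult.M23Data
import Cfsg.Agent.Compute.M24Base
import Cfsg.Agent.StemCert.Packed

/-! Checks of the multiplier certificate of M23. -/

set_option autoImplicit false
set_option maxHeartbeats 0
set_option maxRecDepth 100000
set_option Elab.async false

namespace Cfsg.Agent.SporMult.M23

open Cfsg Cfsg.Agent.Compute Cfsg.Agent.StemCert

/-- Membership test. -/
noncomputable def memTest (c : ℕ) : Bool := inM24B c && Nat.beq (rep24.act c 23) 23

theorem mem_ok : allBelow 7 (fun s => memTest (codes.getD s 0)) = true := by decide +kernel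
theorem wf_ok : wfB cert.D = true := by decide +kernel
theorem top_ok : cert.topOK 7 = true := by decide +kernel
theorem rel_ok : allBelow cert.nRel cert.relOK = true := by decide +kernel
theorem pow_ok : allBelow 7 cert.powOK = true := by decide +kernel
theorem commData_ok : allBelow 7 cert.commOK = true := by decide +kernel
theorem pv_ok : allBelow 6 (cert.pvOK pvs) = true := by decide +kernel
theorem bound_ok : cert.boundP = true := by decide +kernel
theorem lv0_0 : allBelow (lvAt cert.D 0).size (cert.entP pvs 0 0) = true := by decide +kernel
theorem lv0_1 : allBelow (lvAt cert.D 0).size (cert.entP pvs 0 1) = true := by decide +kernel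
theorem lv0_2 : allBelow (lvAt cert.D 0).size (cert.entP pvs 0 2) = true := by decide +kernel
theorem lv0_3 : allBelow (lvAt cert.D 0).size (cert.entP pvs 0 3) = true := by decide +kernel
theorem lv0_4 : allBelow (lvAt cert.D 0).size (cert.entP pvs 0 4) = true := by decide +kernel
theorem lv0_5 : allBelow (lvAt cert.D 0).size (cert.entP pvs 0 5) = true := by decide +kernel
theorem lv0_6 : allBelow (lvAt cert.D 0).size (cert.entP pvs 0 6) = true := by decide +kernel

theorem lv0_gens : (lvAt cert.D 0).gens = [0, 1, 2, 3, 4, 5, 6] := rfl

theorem lv0_ok : cert.lvP pvs 0 = true := lvP_of_gens cert fun s hs => by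
  rw [lv0_gens] at hs
  simp only [List.mem_cons, List.not_mem_nil, or_false] at hs
  rcases hs with rfl | rfl | rfl | rfl | rfl | rfl | rfl
  exacts [lv0_0, lv0_1, lv0_2, lv0_3, lv0_4, lv0_5, lv0_6]

theorem lv1_ok : cert.lvP pvs 1 = true := by decide +kernel
theorem lv2_ok : cert.lvP pvs 2 = true := by decide +kernel
theorem lv3_ok : cert.lvP pvs 3 = true := by decide +kernel
theorem lv4_ok : cert.lvP pvs 4 = true := by decide +kernel
theorem lv5_ok : cert.lvP pvs 5 = true := by decide +kernel
theorem row_ok : allB cert.rowOK cert.rows = true := by decide +kernel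
theorem rows_ok : cert.rowsP pvs cert.rows rowVals = true := by decide +kernel
theorem basisP_ok : allBelow cert.dim (cert.basisP rowVals) = true := by decide +kernel
theorem ordP_ok : cert.ordP rowVals = true := by decide +kernel
theorem below_ok : gensBelow 7 cert.D = true := by decide +kernel
theorem blt_ok : allB (fun b => Nat.blt b 24) base = true := by decide +kernel
theorem distinct_ok : distinctB 5 codes cert.D base = true := by decide +kernel
theorem table_ok : allBelow 6 (cert.tableAt 5 codes base) = true := by decide +kernel
theorem comm_ok : allBelow 7 (cert.commAt 5 codes base) = true := by decide +kernel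
theorem shape_ok : cert.D.length = 6 ∧ cert.ord = 1 ∧ 0 < cert.ord := by decide +kernel

theorem md_pos : 0 < cert.md := by decide +kernel

theorem pvs_ok : ∀ i < cert.D.length, cert.pvOK pvs i = true := fun i hi =>
  allBelow_eq_true.mp pv_ok i (shape_ok.1 ▸ hi)

theorem checks : Checks cert 7 codes base where
  checked :=
    { wf := wf_ok, top := top_ok, rel := rel_ok, pow := pow_ok, comm := commData_ok
      lv := fun i hi => by
        rw [shape_ok.1] at hi
        interval_cases i
        all_goals apply lvOK_of_lvP cert md_pos pvs_ok
        exacts [lv0_ok, lv1_ok, lv2_ok, lv3_ok, lv4_ok, lv5_ok]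
      row := row_ok
      basis := allBelow_eq_true.mpr fun j hj =>
        basisOK_of_basisP cert bound_ok pvs_ok rows_ok (allBelow_eq_true.mp basisP_ok j hj)
      order := ordOK_of_ordP cert bound_ok pvs_ok rows_ok ordP_ok
      piv_lt := shape_ok.2.2 }
  below := below_ok
  blt := blt_ok
  distinct := distinct_ok
  table := fun i hi => allBelow_eq_true.mp table_ok i (shape_ok.1 ▸ hi)
  comm := comm_ok
  ord := shape_ok.2.1

end Cfsg.Agent.SporMult.M23
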